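import Cfsg.Agent.Chevalley.Hecke.Bruhat

/-!
A system of root subgroups with its torus, coroots and root coordinates, and elementary facts about
roots, representatives and cells that the classification of simple modules uses.
-/
set_option autoImplicit false
set_option linter.style.haveILetI false

namespace Cfsg.Agent.Chevalley.Weights

open Cfsg.Lie Cfsg.Agent.H37 Cfsg.Agent.H37.RootSys Cfsg.Agent.H37.Weyl
open Cfsg.Agent.Chevalley.Hecke (Up inv_up inv_down up_of_down)

variable {n : ℕ} {M : CoxeterMatrix (Fin n)} {C : Weyl.Cert} {D : ChevalleyDatum}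
variable {hC : Weyl.Good C D M} {G F : Type*} [Group G] [Field F]

/-- The torus in coordinates, the coroots and the root coordinates. -/
structure Rich (S : Sys hC G F) where
  tor : (Fin n → Fˣ) →* G
  tor_inj : Function.Injective tor
  tor_range : tor.range = S.H
  cor : ℕ → Fin n → ℤ
  cor_simple : ∀ i j : Fin n, cor (D.simple i) j = if j = i then 1 else 0
  cor_sigma : ∀ (i j : Fin n) r, r < D.nroots → j ≠ i → cor (C.sigma i r) j = cor r j
  cor_neg_simple : ∀ i : Fin n, cor (C.sigma i (D.simple i)) i = -1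
  co_conj : ∀ (i : Fin n) r, r < D.nroots → ∀ t : Fˣ,
    S.ns i * tor (fun j => t ^ cor r j) * (S.ns i)⁻¹ = tor (fun j => t ^ cor (C.sigma i r) j)
  sl2c : ∀ (i : Fin n) (t : Fˣ), S.x (C.sigma i (D.simple i)) t =
    S.x (D.simple i) ((t⁻¹ : Fˣ) : F) * tor (Pi.mulSingle i (-t⁻¹)) * S.ns i *
      S.x (D.simple i) ((t⁻¹ : Fˣ) : F)
  ns_sq : ∀ i : Fin n, S.ns i * S.ns i = tor (Pi.mulSingle i (-1))
  cf : ℕ → Fin n → ℤ
  cf_simple : ∀ i j : Fin n, cf (D.simple i) j = if j = i then 1 else 0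
  cf_nonneg : ∀ r, r < D.nroots → D.nroots / 2 ≤ r → ∀ j, 0 ≤ cf r j
  cf_pos : ∀ r, r < D.nroots → D.nroots / 2 ≤ r → ∃ j, 0 < cf r j
  cf_neg : ∀ r, r < D.nroots → ∀ j, cf (D.nroots - 1 - r) j = - cf r j
  cf_ext : ∀ r s, r < D.nroots → s < D.nroots → (∀ j, cf r j = cf s j) → r = s
  cf_sigma : ∀ (i j : Fin n) r, r < D.nroots → j ≠ i → cf (C.sigma i r) j = cf r j
  T_cf : ∀ r s k, r < D.nroots → s < D.nroots → k < D.nroots → S.T r s k →
    ∃ a b : ℤ, 0 < a ∧ 0 < b ∧ ∀ j, cf k j = a * cf r j + b * cf s j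
  T_up : ∀ (i : Fin n) r, r < D.nroots → cf r i < cf (C.sigma i r) i →
    S.T r (D.simple i) (C.sigma i r)
  climb : ∀ r, r < D.nroots → D.nroots / 2 ≤ r → (∃ i : Fin n, r = D.simple i) ∨
    ∃ i : Fin n, C.sigma i r < r ∧ D.nroots / 2 ≤ C.sigma i r ∧ cf (C.sigma i r) i < cf r i

/-- The root image under a Weyl group element. -/
noncomputable def act (hC : Weyl.Good C D M) (w : M.Group) (r : ℕ) : ℕ :=
  if h : r < D.nroots then (hC.hom w ⟨r, h⟩).val else r

theorem act_eq (w : M.Group) {r : ℕ} (h : r < D.nroots) :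
    act hC w r = (hC.hom w ⟨r, h⟩).val := dif_pos h

theorem act_lt (w : M.Group) {r : ℕ} (h : r < D.nroots) : act hC w r < D.nroots := by
  rw [act_eq w h]; exact Fin.isLt _

theorem act_one (r : ℕ) : act hC 1 r = r := by
  unfold act; split <;> simp

theorem act_mul (v w : M.Group) {r : ℕ} (h : r < D.nroots) :
    act hC (v * w) r = act hC v (act hC w r) := by
  rw [act_eq _ h, act_eq w h, act_eq v (Fin.isLt _), map_mul]
  rfl

theorem act_inv_act (w : M.Group) {r : ℕ} (h : r < D.nroots) :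
    act hC w⁻¹ (act hC w r) = r := by
  rw [← act_mul _ _ h, inv_mul_cancel, act_one]

theorem act_act_inv (w : M.Group) {r : ℕ} (h : r < D.nroots) :
    act hC w (act hC w⁻¹ r) = r := by
  rw [← act_mul _ _ h, mul_inv_cancel, act_one]

theorem act_simple (i : Fin n) {r : ℕ} (h : r < D.nroots) :
    act hC (M.simple i) r = C.sigma i r := by
  rw [act_eq _ h, hC.hom_simple, hC.sigmaPerm_val]

theorem act_neg (w : M.Group) {r : ℕ} (h : r < D.nroots) :
    act hC w (D.nroots - 1 - r) = D.nroots - 1 - act hC w r := by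
  rw [act_eq w h, act_eq w (by omega), hC.hom_neg w ⟨r, h⟩]

theorem up_iff (w : M.Group) (i : Fin n) :
    Up hC w i ↔ D.nroots / 2 ≤ act hC w (D.simple i) := by
  rw [act_eq w (hC.simple_spec i.isLt).2.1]; rfl

theorem simple_lt (hC : Weyl.Good C D M) (i : Fin n) : D.simple i < D.nroots :=
  (hC.simple_spec i.isLt).2.1

theorem simple_pos (hC : Weyl.Good C D M) (i : Fin n) : D.nroots / 2 ≤ D.simple i :=
  (hC.simple_spec i.isLt).1

theorem sigma_lt (hC : Weyl.Good C D M) (i : Fin n) {r : ℕ} (h : r < D.nroots) :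
    C.sigma i r < D.nroots := (hC.sigma_spec i.isLt h).1

theorem sigma_sigma (hC : Weyl.Good C D M) (i : Fin n) {r : ℕ} (h : r < D.nroots) :
    C.sigma i (C.sigma i r) = r := (hC.sigma_spec i.isLt h).2.2.1

theorem sigma_pos (hC : Weyl.Good C D M) (i : Fin n) {r : ℕ} (h : r < D.nroots)
    (hp : D.nroots / 2 ≤ r) (hne : r ≠ D.simple i) : D.nroots / 2 ≤ C.sigma i r :=
  (hC.sigma_spec i.isLt h).2.2.2.2 hp hne

theorem sigma_simple (hC : Weyl.Good C D M) (i : Fin n) :
    C.sigma i (D.simple i) = D.nroots - 1 - D.simple i := by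
  have hlt := sigma_lt hC i (simple_lt hC i)
  have hs := simple_pos hC i
  have hss := simple_lt hC i
  have hev := hC.even
  by_contra hne
  have h5 := sigma_pos hC i (r := D.nroots - 1 - C.sigma i (D.simple i)) (by omega) (by
    have := hC.simple_spec i.isLt; omega) (fun h => hne (by omega))
  have h6 := (hC.sigma_spec i.isLt hlt).2.2.2.1
  rw [h6, sigma_sigma hC i hss] at h5
  omega

theorem sigma_simple_neg (hC : Weyl.Good C D M) (i : Fin n) :
    C.sigma i (D.simple i) < D.nroots / 2 := by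
  rw [sigma_simple hC i]
  have := simple_pos hC i
  have := simple_lt hC i
  have := hC.even
  omega

theorem sigma_neg (hC : Weyl.Good C D M) (i : Fin n) {r : ℕ} (h : r < D.nroots)
    (hn : r < D.nroots / 2) (hne : r ≠ C.sigma i (D.simple i)) :
    C.sigma i r < D.nroots / 2 := by
  by_contra hp
  have h2 := sigma_pos hC i (sigma_lt hC i h) (not_lt.1 hp) (fun e => hne (by
    rw [← e, sigma_sigma hC i h]))
  rw [sigma_sigma hC i h] at h2
  omega

theorem simple_mul_self (i : Fin n) : M.simple i * M.simple i = 1 :=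
  M.toCoxeterSystem.simple_mul_simple_self i

theorem simple_inv (i : Fin n) : (M.simple i)⁻¹ = M.simple i :=
  inv_eq_of_mul_eq_one_right (simple_mul_self i)

variable {S : Sys hC G F}

theorem simple_inj' (R : Rich S) {i j : Fin n} (h : D.simple i = D.simple j) : i = j := by
  by_contra hne
  have h1 := R.cf_simple i i
  have h2 := R.cf_simple j i
  rw [h, h2, if_neg hne, if_pos rfl] at h1
  exact zero_ne_one h1

namespace Rich

variable (R : Rich S)
include R

/-- The coroot one-parameter subgroup. -/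
def co (r : ℕ) (t : Fˣ) : G := R.tor fun j => t ^ R.cor r j

theorem co_simple (i : Fin n) (t : Fˣ) : R.co (D.simple i) t = R.tor (Pi.mulSingle i t) := by
  unfold co
  congr 1
  funext j
  rw [R.cor_simple]
  by_cases h : j = i
  · subst h; simp
  · simp [h]

theorem tor_mem (c : Fin n → Fˣ) : R.tor c ∈ S.H := R.tor_range ▸ ⟨c, rfl⟩

theorem exists_tor {h : G} (hh : h ∈ S.H) : ∃ c, R.tor c = h :=
  MonoidHom.mem_range.1 (R.tor_range.symm ▸ hh)

theorem H_comm {h k : G} (hh : h ∈ S.H) (hk : k ∈ S.H) : h * k = k * h := by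
  obtain ⟨c, rfl⟩ := R.exists_tor hh
  obtain ⟨d, rfl⟩ := R.exists_tor hk
  rw [← map_mul, ← map_mul, mul_comm]

theorem H_induction {P : G → Prop} (h1 : P 1) (hmul : ∀ a b, a ∈ S.H → b ∈ S.H → P a → P b → P (a * b))
    (hgen : ∀ (m : Fin n) (a : Fˣ), P (R.tor (Pi.mulSingle m a))) {h : G} (hh : h ∈ S.H) : P h := by
  obtain ⟨c, rfl⟩ := R.exists_tor hh
  rw [← Finset.univ_prod_mulSingle c]
  have : ∀ T : Finset (Fin n), P (R.tor (∏ m ∈ T, Pi.mulSingle m (c m))) := by
    intro T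
    induction T using Finset.induction with
    | empty => simpa using h1
    | insert a T ha ih =>
      rw [Finset.prod_insert ha, map_mul]
      exact hmul _ _ (R.tor_mem _) (R.tor_mem _) (hgen a (c a)) ih
  exact this Finset.univ

theorem conj_tor_single (i m : Fin n) (a : Fˣ) : ∃ e : Fˣ,
    S.ns i * R.tor (Pi.mulSingle m a) * (S.ns i)⁻¹
      = R.tor (Pi.mulSingle m a) * R.tor (Pi.mulSingle i e) := by
  refine ⟨a ^ (R.cor (C.sigma i (D.simple m)) i - if i = m then 1 else 0), ?_⟩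
  rw [← R.co_simple m a, co, R.co_conj i _ (simple_lt hC m) a, ← map_mul]
  congr 1
  funext j
  simp only [Pi.mul_apply]
  by_cases h : j = i
  · subst h
    rw [Pi.mulSingle_eq_same, R.cor_simple, ← zpow_add]
    congr 1
    ring
  · rw [Pi.mulSingle_eq_of_ne h, mul_one, R.cor_sigma i j _ (simple_lt hC m) h]

/-- Conjugation by `n_i` moves the torus by elements of the `i`-th coroot. -/
theorem conj_H (i : Fin n) {h : G} (hh : h ∈ S.H) : ∃ e : Fˣ,
    S.ns i * h * (S.ns i)⁻¹ = h * R.tor (Pi.mulSingle i e) := by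
  refine R.H_induction (P := fun h => ∃ e : Fˣ,
    S.ns i * h * (S.ns i)⁻¹ = h * R.tor (Pi.mulSingle i e)) ⟨1, by simp⟩ ?_ ?_ hh
  · rintro a b ha hb ⟨e, he⟩ ⟨e', he'⟩
    refine ⟨e * e', ?_⟩
    rw [show S.ns i * (a * b) * (S.ns i)⁻¹
      = (S.ns i * a * (S.ns i)⁻¹) * (S.ns i * b * (S.ns i)⁻¹) by group, he, he', Pi.mulSingle_mul,
      map_mul, mul_assoc, ← mul_assoc _ b, R.H_comm (R.tor_mem _) hb, mul_assoc, ← mul_assoc a]
  · exact fun m a => R.conj_tor_single i m a

theorem ns_conj_single (i : Fin n) (t : Fˣ) :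
    S.ns i * R.tor (Pi.mulSingle i t) * (S.ns i)⁻¹ = R.tor (Pi.mulSingle i t⁻¹) := by
  rw [← R.co_simple i, co, R.co_conj i _ (simple_lt hC i)]
  congr 1
  funext j
  by_cases h : j = i
  · subst h; rw [R.cor_neg_simple, Pi.mulSingle_eq_same, zpow_neg_one]
  · rw [R.cor_sigma i j _ (simple_lt hC i) h, R.cor_simple, if_neg h, Pi.mulSingle_eq_of_ne h,
      zpow_zero]

theorem single_ns (i : Fin n) (t : Fˣ) :
    R.tor (Pi.mulSingle i t) * S.ns i = S.ns i * R.tor (Pi.mulSingle i t⁻¹) := by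
  have := R.ns_conj_single i t⁻¹
  rw [inv_inv, mul_inv_eq_iff_eq_mul] at this
  exact this.symm

theorem ns_inv (i : Fin n) : (S.ns i)⁻¹ = S.ns i * R.tor (Pi.mulSingle i (-1)) := by
  refine inv_eq_of_mul_eq_one_right ?_
  rw [← mul_assoc, R.ns_sq, ← map_mul, ← Pi.mulSingle_mul]
  simp

omit R in
theorem conj_inv_mem_H {g h : G} (hg : g ∈ Subgroup.normalizer (S.H : Set G)) (hh : h ∈ S.H) :
    g⁻¹ * h * g ∈ S.H := by
  have := (Subgroup.mem_normalizer_iff.1 (inv_mem hg) h).1 hh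
  simpa using this

omit R in
theorem rep_norm (w : M.Group) : S.rep w ∈ Subgroup.normalizer (S.H : Set G) := (S.mk_rep w).1

/-- The representatives move the coroots along. -/
theorem rep_conj_co (w : M.Group) : ∀ r, r < D.nroots → ∀ t : Fˣ,
    S.rep w * R.co r t * (S.rep w)⁻¹ = R.co (act hC w r) t := by
  refine Sys.gen_induction (p := fun w => ∀ r, r < D.nroots → ∀ t : Fˣ,
    S.rep w * R.co r t * (S.rep w)⁻¹ = R.co (act hC w r) t) ?_ ?_ w
  · intro r _ t; simp [S.rep_one, act_one]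
  · intro i w ih r hr t
    obtain ⟨h, hh, e⟩ := S.ns_rep (i := i) w
    have e' : S.rep (M.simple i * w) = h⁻¹ * (S.ns i * S.rep w) := by rw [e, inv_mul_cancel_left]
    rw [e', act_mul _ _ hr, act_simple i (act_lt w hr),
      show h⁻¹ * (S.ns i * S.rep w) * R.co r t * (h⁻¹ * (S.ns i * S.rep w))⁻¹
        = h⁻¹ * (S.ns i * (S.rep w * R.co r t * (S.rep w)⁻¹) * (S.ns i)⁻¹) * h by group,
      ih r hr t]
    simp only [co]
    rw [R.co_conj i _ (act_lt w hr) t, mul_assoc, R.H_comm (R.tor_mem _) hh, inv_mul_cancel_left]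

end Rich

theorem x_inj {r : ℕ} (hr : r < D.nroots) (hp : D.nroots / 2 ≤ r) {a b : F}
    (h : S.x r a = S.x r b) : a = b := by
  have h1 : S.x r (a - b) = 1 := by
    have := S.x_add' r hr (a - b) b
    rw [sub_add_cancel, h] at this
    exact mul_eq_right.1 this.symm
  exact sub_eq_zero.1 (S.sep (S.P_eq ▸ mem_posSet.2 ⟨hr, hp⟩) _ (h1 ▸ one_mem _))

theorem x_neg {r : ℕ} (hr : r < D.nroots) (t : F) : S.x r (-t) = (S.x r t)⁻¹ :=
  eq_inv_of_mul_eq_one_left (by rw [← S.x_add' r hr, neg_add_cancel, S.x_zero' hr])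

/-- A conjugation between root subgroups is a bijection of parameters. -/
theorem exists_param [Finite F] {g : G} {r r' : ℕ} (hr : r < D.nroots) (hp : D.nroots / 2 ≤ r)
    (hr' : r' < D.nroots) (hg : ∀ t, ∃ t', g * S.x r t * g⁻¹ = S.x r' t') :
    ∃ e : F ≃ F, e 0 = 0 ∧ ∀ t, g * S.x r t * g⁻¹ = S.x r' (e t) := by
  choose f hf using hg
  have hinj : Function.Injective f := fun a b h => x_inj hr hp (by
    have h2 : g * S.x r a * g⁻¹ = g * S.x r b * g⁻¹ := by rw [hf, hf, h]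
    simpa using h2)
  have hbij := Finite.injective_iff_bijective.1 hinj
  refine ⟨Equiv.ofBijective f hbij, ?_, hf⟩
  obtain ⟨s, hs⟩ := hbij.2 0
  show f 0 = 0
  have h2 := hf s
  rw [hs, S.x_zero' hr', conj_eq_one_iff, ← S.x_zero' hr] at h2
  have h3 := x_inj hr hp h2
  subst h3
  exact hs

theorem root_form {r : ℕ} (hr : r < D.nroots) {g : G} (hg : g ∈ XS S.x ({r} : Set ℕ)) :
    ∃ t, g = S.x r t := by
  induction hg using Subgroup.closure_induction with
  | mem g hg => obtain ⟨s, rfl, t, rfl⟩ := hg; exact ⟨t, rfl⟩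
  | one => exact ⟨0, (S.x_zero' hr).symm⟩
  | mul a b _ _ ha hb =>
    obtain ⟨t, rfl⟩ := ha; obtain ⟨t', rfl⟩ := hb
    exact ⟨t + t', (S.x_add' r hr t t').symm⟩
  | inv a _ ha => obtain ⟨t, rfl⟩ := ha; exact ⟨-t, (x_neg hr t).symm⟩

/-- The negative subgroup. -/
def negU (S : Sys hC G F) : Subgroup G := XS S.x (↑(negSet D) : Set ℕ)

theorem x_mem_negU {r : ℕ} (hr : r < D.nroots) (hn : r < D.nroots / 2) (t : F) :
    S.x r t ∈ negU S := x_mem_XS (Finset.mem_coe.2 (mem_negSet.2 ⟨hr, hn⟩)) t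

/-- The positive roots other than a fundamental one. -/
def noSimple (D : ChevalleyDatum) (i : ℕ) : Set ℕ := {r | r ∈ posSet D ∧ r ≠ D.simple i}

theorem conj_noSimple (i : Fin n) {a : G} (ha : a ∈ XS S.x (noSimple D i)) :
    S.ns i * a * (S.ns i)⁻¹ ∈ S.U :=
  conj_mem_XS (fun r hr t => by
    obtain ⟨h1, h2⟩ := mem_posSet.1 hr.1
    obtain ⟨t', e⟩ := S.n_conj i i.isLt r h1 t
    rw [e]
    exact S.x_mem_U (sigma_lt hC i h1) (sigma_pos hC i h1 h2 hr.2) t') ha

theorem conj_noSimple' (i : Fin n) {a : G} (ha : a ∈ XS S.x (noSimple D i)) :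
    (S.ns i)⁻¹ * a * S.ns i ∈ S.U := by
  have h := S.H_conj_U (inv_mem (S.sq i i.isLt)) (conj_noSimple i ha)
  simpa [mul_assoc] using h

theorem noSimple_le (i : ℕ) : XS S.x (noSimple D i) ≤ S.U := XS_mono fun _ h => h.1

/-- `u = a x_α(t)`. -/
theorem split_right (i : Fin n) {u : G} (hu : u ∈ S.U) :
    ∃ a ∈ XS S.x (noSimple D i), ∃ t, u = a * S.x (D.simple i) t := by
  obtain ⟨a, ha, b, hb, e⟩ := S.toUnip.exists_split (S.P_eq ▸ S.toUnip.closed_P)
    (noSimple D i) {D.simple i} (fun r hr => by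
      by_cases h : r = D.simple i
      · exact Or.inr h
      · exact Or.inl ⟨hr, h⟩) hu
  obtain ⟨t, rfl⟩ := root_form (simple_lt hC i) hb
  exact ⟨a, ha, t, e⟩

/-- `u = x_α(t) a`. -/
theorem split_left (i : Fin n) {u : G} (hu : u ∈ S.U) :
    ∃ t, ∃ a ∈ XS S.x (noSimple D i), u = S.x (D.simple i) t * a := by
  obtain ⟨a, ha, t, e⟩ := split_right i (inv_mem hu)
  exact ⟨-t, a⁻¹, inv_mem ha, by rw [x_neg (simple_lt hC i), ← mul_inv_rev, ← e, inv_inv]⟩

/-- Right multiplication of a cell by `n_i` when it goes up. -/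
theorem cell_mul_up (i : Fin n) {b : M.Group} (hb : Up hC b i) {g : G} (hg : g ∈ S.cell b) :
    g * S.ns i ∈ S.cell (b * M.simple i) := by
  obtain ⟨u, hu, h, hh, u', hu', h', hh', rfl⟩ := hg
  obtain ⟨t, a, ha, rfl⟩ := split_left i hu'
  obtain ⟨t', e⟩ := S.rep_conj b (D.simple i) (simple_lt hC i) t
  have hmem : S.rep b * S.x (D.simple i) t * (S.rep b)⁻¹ ∈ S.U := by
    rw [e]; exact S.x_mem_U (Fin.isLt _) hb t'
  obtain ⟨k, hk, ek⟩ := S.rep_mul b (M.simple i)
  obtain ⟨k', hk', ek'⟩ := S.rep_simple i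
  have e2 : S.rep b * S.ns i = (S.rep b * k' * (S.rep b)⁻¹)⁻¹ * k * S.rep (b * M.simple i) := by
    rw [mul_assoc, ← ek, ek']; group
  have hnh : (S.ns i)⁻¹ * h' * S.ns i ∈ S.H := Rich.conj_inv_mem_H (S.ns_mem_norm i.isLt) hh'
  rw [show u * h * S.rep b * (S.x (D.simple i) t * a * h') * S.ns i
    = u * (h * ((S.rep b * S.x (D.simple i) t * (S.rep b)⁻¹) * ((S.rep b * S.ns i)
      * (((S.ns i)⁻¹ * a * S.ns i) * ((S.ns i)⁻¹ * h' * S.ns i))))) by group, e2]
  refine S.cell_left_U hu (S.cell_left_H hh (S.cell_left_U hmem ?_))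
  rw [← mul_assoc ((S.rep b * k' * (S.rep b)⁻¹)⁻¹ * k * S.rep (b * M.simple i))]
  exact S.cell_right_H hnh (S.cell_right_U (conj_noSimple' i ha)
    (S.cell_left_H (mul_mem (inv_mem (S.rep_conj_H b hk')) hk) (S.rep_mem_cell _)))

/-- The representative of a fundamental reflection conjugated to a fundamental reflection. -/
theorem conj_simple (R : Rich S) {u : M.Group} {l j : Fin n}
    (h : act hC u (D.simple l) = D.simple j) :
    u * M.simple l * u⁻¹ = M.simple j ∧ ∃ c : Fˣ,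
      S.rep u * S.ns l * (S.rep u)⁻¹ = R.tor (Pi.mulSingle j c) * S.ns j := by
  have hs := simple_lt hC l
  have hj := simple_lt hC j
  set α := D.simple l with hα
  set β := C.sigma l α with hβ
  set β' := C.sigma j (D.simple j) with hβ'
  have hone : S.ns l = S.x α 1 * S.x β (-1) * S.x α 1 := by
    have e := R.sl2c l (-1)
    simp only [inv_neg, inv_one, _root_.neg_neg, Units.val_neg, Units.val_one, Pi.mulSingle_one,
      map_one, mul_one] at e
    rw [hβ, hα, e, x_neg (simple_lt hC l)]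
    group
  have hmap : act hC u β = β' := by
    rw [hβ, hβ', sigma_simple hC, sigma_simple hC, act_neg u hs, h]
  obtain ⟨a, ea⟩ := S.rep_conj u α hs 1
  obtain ⟨b, eb⟩ := S.rep_conj u β (sigma_lt hC l hs) (-1)
  rw [← act_eq u hs, h] at ea
  rw [← act_eq u (sigma_lt hC l hs), hmap] at eb
  set m := S.rep u * S.ns l * (S.rep u)⁻¹ with hm
  have hmform : m = S.x (D.simple j) a * S.x β' b * S.x (D.simple j) a := by
    rw [hm, hone, ← ea, ← eb]; group
  have hmw : ∃ k ∈ S.H, m = k * S.rep (u * M.simple l * u⁻¹) := by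
    obtain ⟨k1, hk1, e1⟩ := S.rep_simple l
    obtain ⟨k2, hk2, e2⟩ := S.rep_mul u (M.simple l)
    obtain ⟨k3, hk3, e3⟩ := S.rep_mul (u * M.simple l) u⁻¹
    obtain ⟨k4, hk4, e4⟩ := S.rep_inv u
    refine ⟨(S.rep u * k1 * (S.rep u)⁻¹)⁻¹ * k2 *
      (S.rep (u * M.simple l) * k4 * (S.rep (u * M.simple l))⁻¹) * k3,
      mul_mem (mul_mem (mul_mem (inv_mem (S.rep_conj_H u hk1)) hk2) (S.rep_conj_H _ hk4)) hk3, ?_⟩
    have e5 : S.rep u * S.ns l
        = (S.rep u * k1 * (S.rep u)⁻¹)⁻¹ * k2 * S.rep (u * M.simple l) := by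
      rw [mul_assoc _ k2, ← e2, e1]; group
    rw [hm, e5, e4, mul_assoc _ k3, ← e3]
    group
  obtain ⟨k, hk, hkm⟩ := hmw
  have hb0 : b ≠ 0 := by
    rintro rfl
    rw [S.x_zero' (sigma_lt hC j hj), mul_one] at hmform
    have h1 : S.rep (u * M.simple l * u⁻¹) ∈ S.cell 1 := by
      rw [show S.rep (u * M.simple l * u⁻¹) = k⁻¹ * m by rw [hkm, inv_mul_cancel_left], hmform]
      refine S.cell_left_H (inv_mem hk) ⟨_, mul_mem (S.x_mem_U hj (simple_pos hC j) a)
        (S.x_mem_U hj (simple_pos hC j) a), 1, one_mem _, 1, one_mem _, 1, one_mem _, ?_⟩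
      rw [S.rep_one]; group
    exact Sys.simple_ne_one (hC := hC) l (conj_eq_one_iff.1 (S.eq_one_of_cell_one h1))
  obtain ⟨A, B, c, hAB⟩ : ∃ A B, ∃ c : Fˣ,
      m = S.x (D.simple j) A * R.tor (Pi.mulSingle j c) * S.ns j * S.x (D.simple j) B := by
    refine ⟨a + ((Units.mk0 b hb0)⁻¹ : Fˣ), ((Units.mk0 b hb0)⁻¹ : Fˣ) + a, -(Units.mk0 b hb0)⁻¹, ?_⟩
    have e := R.sl2c j (Units.mk0 b hb0)
    rw [Units.val_mk0, ← hβ'] at e
    rw [hmform, e, S.x_add' _ hj, S.x_add' _ hj]
    simp only [mul_assoc]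
  have hcell : m ∈ S.cell (M.simple j) := by
    obtain ⟨k1, hk1, e1⟩ := S.rep_simple j
    rw [hAB, show S.x (D.simple j) A * R.tor (Pi.mulSingle j c) * S.ns j
      = S.x (D.simple j) A * ((R.tor (Pi.mulSingle j c) * k1⁻¹) * S.rep (M.simple j)) by
        rw [e1]; group]
    exact S.cell_right_U (S.x_mem_U hj (simple_pos hC j) B)
      (S.cell_left_U (S.x_mem_U hj (simple_pos hC j) A)
        (S.cell_left_H (mul_mem (R.tor_mem _) (inv_mem hk1)) (S.rep_mem_cell _)))
  have hw : u * M.simple l * u⁻¹ = M.simple j := S.cell_index (by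
    rw [show S.rep (u * M.simple l * u⁻¹) = k⁻¹ * m by rw [hkm, inv_mul_cancel_left]]
    exact S.cell_left_H (inv_mem hk) hcell)
  refine ⟨hw, c, ?_⟩
  obtain ⟨k1, hk1, e1⟩ := S.rep_simple j
  rw [hw, e1, ← mul_assoc] at hkm
  set T := R.tor (Pi.mulSingle j c) with hT
  obtain ⟨B', eB⟩ := S.n_conj j j.isLt (D.simple j) hj B
  obtain ⟨A', eA⟩ := S.h_conj T⁻¹ (inv_mem (R.tor_mem _)) (D.simple j) hj (-A)
  rw [inv_inv] at eA
  have hkey : S.x (D.simple j) A' * (T⁻¹ * (k * k1)) = S.x β' B' := by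
    rw [← eA, ← eB, x_neg hj,
      show S.ns j * S.x (D.simple j) B * (S.ns j)⁻¹
        = T⁻¹ * (S.x (D.simple j) A)⁻¹ * (S.x (D.simple j) A * T * S.ns j * S.x (D.simple j) B) *
          (S.ns j)⁻¹ by group, ← hAB, hkm]
    group
  have hh' : T⁻¹ * (k * k1) ∈ S.H := mul_mem (inv_mem (R.tor_mem _)) (mul_mem hk hk1)
  have hv := S.UHV _ (S.x_mem_U hj (simple_pos hC j) A') _ hh' _
    (x_mem_negU (sigma_lt hC j hj) (sigma_simple_neg hC j) B') hkey
  rw [hv, mul_eq_one_iff_eq_inv] at hkey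
  have h2 := S.UH _ (S.x_mem_U hj (simple_pos hC j) A') (hkey ▸ inv_mem hh')
  rw [h2] at hkey
  rw [hkm]
  congr 1
  exact (inv_mul_eq_one.1 (inv_eq_one.1 hkey.symm)).symm

/-- Roots made positive by an element positive on a set of fundamental roots. -/
theorem pos_of_supported (R : Rich S) (w : M.Group) (J : Set (Fin n))
    (hJ : ∀ j ∈ J, D.nroots / 2 ≤ act hC w (D.simple j)) : ∀ r, r < D.nroots →
      D.nroots / 2 ≤ r → (∀ m, m ∉ J → R.cf r m = 0) → D.nroots / 2 ≤ act hC w r := by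
  intro r
  induction r using Nat.strong_induction_on with
  | _ r ih =>
    intro hr hp hsupp
    rcases R.climb r hr hp with ⟨i, rfl⟩ | ⟨i, hlt, hp', hcf⟩
    · refine hJ i (by_contra fun hi => ?_)
      have := hsupp i hi
      rw [R.cf_simple, if_pos rfl] at this
      exact one_ne_zero this
    · have hs := sigma_lt hC i hr
      have hiJ : i ∈ J := by_contra fun hi => by
        have h1 := R.cf_nonneg _ hs hp' i
        have := hsupp i hi
        omega
      have h1 := ih _ hlt hs hp' (fun m hm => by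
        rw [R.cf_sigma i m r hr (fun e => hm (e ▸ hiJ))]; exact hsupp m hm)
      have hT := R.T_up i _ hs (by rw [sigma_sigma hC i hr]; exact hcf)
      rw [sigma_sigma hC i hr] at hT
      have h2 := S.T_hom w _ _ _ hs (simple_lt hC i) hr hT
      rw [← act_eq w hs, ← act_eq w (simple_lt hC i), ← act_eq w hr] at h2
      have h3 := (S.T_pos (S.P_eq ▸ mem_posSet.2 ⟨act_lt w hs, h1⟩)
        (S.P_eq ▸ mem_posSet.2 ⟨act_lt w (simple_lt hC i), hJ i hiJ⟩) h2).1
      rw [S.P_eq, mem_posSet] at h3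
      exact h3.2

/-- An element sending every positive root to a negative one. -/
theorem exists_long (R : Rich S) : ∃ w : M.Group, ∀ r, r < D.nroots → D.nroots / 2 ≤ r →
    act hC w r < D.nroots / 2 := by
  haveI := hC.finite
  obtain ⟨w, hw⟩ := Finite.exists_max fun w : M.Group => hC.inv w
  refine ⟨w, fun r => ?_⟩
  induction r using Nat.strong_induction_on with
  | _ r ih =>
    intro hr hp
    rcases R.climb r hr hp with ⟨i, rfl⟩ | ⟨i, hlt, hp', hcf⟩
    · by_contra hneg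
      have hup : Up hC w i := (up_iff w i).2 (not_lt.1 hneg)
      have := inv_up hC hup
      have := hw (w * M.simple i)
      omega
    · have hs := sigma_lt hC i hr
      have h1 := ih _ hlt hs hp'
      have h1' : act hC w (D.simple i) < D.nroots / 2 := by
        by_contra hneg
        have := inv_up hC ((up_iff w i).2 (not_lt.1 hneg))
        have := hw (w * M.simple i)
        omega
      have hT := R.T_up i _ hs (by rw [sigma_sigma hC i hr]; exact hcf)
      rw [sigma_sigma hC i hr] at hT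
      have h2 := S.T_hom w _ _ _ hs (simple_lt hC i) hr hT
      rw [← act_eq w hs, ← act_eq w (simple_lt hC i), ← act_eq w hr] at h2
      exact (mem_negSet.1 (S.T_neg (mem_negSet.2 ⟨act_lt w hs, h1⟩)
        (mem_negSet.2 ⟨act_lt w (simple_lt hC i), h1'⟩) h2)).2

theorem negU_le_conj {w : M.Group}
    (hw : ∀ r, r < D.nroots → D.nroots / 2 ≤ r → act hC w r < D.nroots / 2) :
    negU S ≤ S.U.map (MulAut.conj (S.rep w)).toMonoidHom := by
  refine XS_le fun r hr t => ?_
  obtain ⟨hr, hn⟩ := mem_negSet.1 hr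
  obtain ⟨t', e⟩ := S.rep_conj w⁻¹ r hr t
  rw [← act_eq _ hr] at e
  obtain ⟨k, hk, ek⟩ := S.rep_inv w
  have hs := act_lt (hC := hC) w⁻¹ hr
  have hspos : D.nroots / 2 ≤ act hC w⁻¹ r := by
    by_contra hneg
    have h1 := hw (D.nroots - 1 - act hC w⁻¹ r) (by omega) (by have := hC.even; omega)
    rw [act_neg w hs, act_act_inv w hr] at h1
    have := hC.even
    omega
  refine ⟨(S.rep w)⁻¹ * S.x r t * S.rep w, ?_, by simp [mul_assoc]⟩
  rw [show (S.rep w)⁻¹ * S.x r t * S.rep w = (S.rep w)⁻¹ * S.x r t * ((S.rep w)⁻¹)⁻¹ by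
    rw [inv_inv], ek, show k * S.rep w⁻¹ * S.x r t * (k * S.rep w⁻¹)⁻¹
      = k * (S.rep w⁻¹ * S.x r t * (S.rep w⁻¹)⁻¹) * k⁻¹ by group, e]
  exact S.H_conj_U hk (S.x_mem_U hs hspos t')

theorem conj_U_le_negU {w : M.Group}
    (hw : ∀ r, r < D.nroots → D.nroots / 2 ≤ r → act hC w r < D.nroots / 2) {u : G} (hu : u ∈ S.U) :
    S.rep w * u * (S.rep w)⁻¹ ∈ negU S :=
  conj_mem_XS (fun r hr t => by
    obtain ⟨h1, h2⟩ := mem_posSet.1 hr
    obtain ⟨t', e⟩ := S.rep_conj w r h1 t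
    rw [← act_eq w h1] at e
    rw [e]
    exact x_mem_negU (act_lt w h1) (hw r h1 h2) t') hu

/-- A negative element splits off a negative fundamental root. -/
theorem negU_split (R : Rich S) (i : Fin n) {a : G} (ha : a ∈ negU S) :
    ∃ a' : G, S.ns i * a' * (S.ns i)⁻¹ ∈ negU S ∧
      ∃ t, a = a' * S.x (C.sigma i (D.simple i)) t := by
  obtain ⟨w, hw⟩ := exists_long R
  obtain ⟨u, hu, rfl⟩ := negU_le_conj hw ha
  obtain ⟨c, hc, b, hb, rfl⟩ := S.toUnip.exists_split (S.P_eq ▸ S.toUnip.closed_P)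
    {r | r ∈ posSet D ∧ act hC w r ≠ C.sigma i (D.simple i)}
    {r | r ∈ posSet D ∧ act hC w r = C.sigma i (D.simple i)} (fun r hr => by
      by_cases h : act hC w r = C.sigma i (D.simple i)
      · exact Or.inr ⟨hr, h⟩
      · exact Or.inl ⟨hr, h⟩) hu
  refine ⟨S.rep w * c * (S.rep w)⁻¹, ?_, ?_⟩
  · have h : S.ns i * S.rep w * c * (S.ns i * S.rep w)⁻¹ ∈ negU S := conj_mem_XS (fun r hr t => by
      obtain ⟨h1, h2⟩ := mem_posSet.1 hr.1
      obtain ⟨t', e⟩ := S.rep_conj w r h1 t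
      rw [← act_eq w h1] at e
      obtain ⟨t'', e'⟩ := S.n_conj i i.isLt _ (act_lt w h1) t'
      rw [show S.ns i * S.rep w * S.x r t * (S.ns i * S.rep w)⁻¹
        = S.ns i * (S.rep w * S.x r t * (S.rep w)⁻¹) * (S.ns i)⁻¹ by group, e, e']
      exact x_mem_negU (sigma_lt hC i (act_lt w h1))
        (sigma_neg hC i (act_lt w h1) (hw r h1 h2) hr.2) t'') hc
    simpa [mul_assoc] using h
  · have h : S.rep w * b * (S.rep w)⁻¹ ∈ XS S.x ({C.sigma i (D.simple i)} : Set ℕ) :=
      conj_mem_XS (fun r hr t => by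
        obtain ⟨h1, h2⟩ := mem_posSet.1 hr.1
        obtain ⟨t', e⟩ := S.rep_conj w r h1 t
        rw [← act_eq w h1, hr.2] at e
        rw [e]
        exact x_mem_XS (Set.mem_singleton _) t') hb
    obtain ⟨t, ht⟩ := root_form (sigma_lt hC i (simple_lt hC i)) h
    exact ⟨t, by rw [← ht]; simp [mul_assoc]⟩

theorem inv_simple_mul {w : M.Group} {i : Fin n} (h : Up hC w⁻¹ i) :
    hC.inv (M.simple i * w) = hC.inv w + 1 := by
  have hδ := act_lt (hC := hC) w⁻¹ (simple_lt hC i)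
  have hδp := (up_iff w⁻¹ i).1 h
  have hwδ := act_act_inv (hC := hC) w (simple_lt hC i)
  have hflip : Sys.flip hC (M.simple i * w) = insert (act hC w⁻¹ (D.simple i)) (Sys.flip hC w) := by
    ext r
    simp only [Finset.mem_insert, Sys.mem_flip]
    constructor
    · rintro ⟨hr, hp, hn⟩
      rw [← act_eq _ hr, act_mul _ _ hr, act_simple i (act_lt w hr)] at hn
      by_cases he : r = act hC w⁻¹ (D.simple i)
      · exact Or.inl he
      · refine Or.inr ⟨hr, hp, ?_⟩
        rw [← act_eq _ hr]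
        by_contra hcon
        have := sigma_pos hC i (act_lt w hr) (not_lt.1 hcon)
          (fun e => he (by rw [← e, act_inv_act w hr]))
        omega
    · rintro (rfl | ⟨hr, hp, hn⟩)
      · refine ⟨hδ, hδp, ?_⟩
        rw [← act_eq _ hδ, act_mul _ _ hδ, hwδ, act_simple i (simple_lt hC i)]
        exact sigma_simple_neg hC i
      · refine ⟨hr, hp, ?_⟩
        rw [← act_eq _ hr] at hn
        rw [← act_eq _ hr, act_mul _ _ hr, act_simple i (act_lt w hr)]
        refine sigma_neg hC i (act_lt w hr) hn fun e => ?_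
        have e2 := congrArg (act hC w⁻¹) e
        rw [act_inv_act w hr, sigma_simple hC i, act_neg _ (simple_lt hC i)] at e2
        have := hC.even
        omega
  have hnot : act hC w⁻¹ (D.simple i) ∉ Sys.flip hC w := fun hm => by
    obtain ⟨hr, _, hn⟩ := Sys.mem_flip.1 hm
    rw [← act_eq _ hr, hwδ] at hn
    have := simple_pos hC i
    omega
  rw [← Sys.card_flip, ← Sys.card_flip, hflip, Finset.card_insert_of_notMem hnot]

end Cfsg.Agent.Chevalley.Weights
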