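import Cfsg.Agent.H83.SimpleTrace
import Mathlib.GroupTheory.FiniteAbelian.Basic

/-!
Simple modules of a group algebra in characteristic `p` through the semisimple model: their number
is the number of `p`-regular classes; cyclicity, duals, and fixed vectors of `p`-subgroups.
-/
set_option autoImplicit false
set_option linter.style.haveILetI false

namespace Cfsg.Agent.Chevalley.Weights

open Cfsg.Agent.BlockBasic Cfsg.Agent.H83.SimpleTrace MonoidAlgebra Finset

variable {p : ℕ} [hp : Fact p.Prime] {k : Type*} [Field k] {G : Type*} [Group G] [Fintype G]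

/-- The classes of `p`-regular elements. -/
def RegClasses (p : ℕ) (G : Type*) [Group G] : Type _ :=
  {c : ConjClasses G // ∃ g : G, ConjClasses.mk g = c ∧ (orderOf g).Coprime p}

theorem pReg_conj (x g : G) :
    pReg (p := p) (x * g * x⁻¹) = x * pReg (p := p) g * x⁻¹ := by
  have hmul : x * pPart (p := p) g * x⁻¹ * (x * pReg (p := p) g * x⁻¹) = x * g * x⁻¹ := by
    conv_rhs => rw [← pPart_mul_pReg (p := p) g]
    group
  have h : pPart (p := p) (x * g * x⁻¹) = x * pPart (p := p) g * x⁻¹ := by
    have horder : ∀ a : G, orderOf (x * a * x⁻¹) = orderOf a := fun a => by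
      have := orderOf_injective (MulAut.conj x).toMonoidHom (MulAut.conj x).injective a
      simpa using this
    refine isPPart_unique hp.out (exists_isPPart hp.out (x * g * x⁻¹)).choose_spec
      ⟨x * pReg (p := p) g * x⁻¹, hmul, ?_, ?_, ?_⟩
    · exact ((commute_pPart_pReg (p := p) g).map (MulAut.conj x).toMonoidHom :)
    · rw [horder]; exact exists_orderOf_pPart (p := p) g
    · rw [horder]; exact not_dvd_orderOf_pReg (p := p) g
  rw [pReg, h, pReg]
  group

theorem pReg_of_regular {g : G} (h : (orderOf g).Coprime p) : pReg (p := p) g = g := by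
  have h1 : pPart (p := p) g = 1 := by
    refine isPPart_unique hp.out (exists_isPPart hp.out g).choose_spec
      ⟨g, one_mul g, Commute.one_left g, ⟨0, by simp⟩, ?_⟩
    exact fun hd => hp.out.one_lt.ne' (Nat.dvd_one.1 (h ▸ Nat.dvd_gcd hd dvd_rfl))
  rw [pReg, h1, inv_one, one_mul]

/-- The number of simple factors is the number of regular classes. -/
theorem num_eq_card (W : Model k G) (hk : (p : k) = 0) :
    W.num = Nat.card (RegClasses p G) := by
  classical
  haveI : Finite (ConjClasses G) := Finite.of_surjective _ ConjClasses.mk_surjective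
  haveI : Fintype (RegClasses p G) := by unfold RegClasses; exact Fintype.ofFinite _
  have hrep : ∀ c : RegClasses p G, ∃ g : G, ConjClasses.mk g = c.1 ∧ (orderOf g).Coprime p :=
    fun c => c.2
  choose r hr using hrep
  let Φ : (Fin W.num → k) →ₗ[k] (RegClasses p G → k) :=
    { toFun := fun a c => ∑ i, a i * W.tr i (single (r c) 1)
      map_add' := fun a b => by funext c; simp [add_mul, sum_add_distrib]
      map_smul' := fun t a => by funext c; simp [mul_sum, mul_assoc] }
  have hcop : ∀ g : G, (orderOf (pReg (p := p) g)).Coprime p := fun g =>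
    (hp.out.coprime_iff_not_dvd.2 (not_dvd_orderOf_pReg g)).symm
  let cls : G → RegClasses p G := fun g => ⟨ConjClasses.mk (pReg (p := p) g), _, rfl, hcop g⟩
  have htr : ∀ i g, W.tr i (single (r (cls g)) 1) = W.tr i (single g 1) := by
    intro i g
    obtain ⟨x, hx⟩ := isConj_iff.1 (ConjClasses.mk_eq_mk_iff_isConj.1 (hr (cls g)).1.symm)
    rw [← hx, W.tr_conj i, ← W.tr_pReg hk i g]
  have hinj : Function.Injective Φ := by
    refine (injective_iff_map_eq_zero Φ).2 fun a ha => funext fun i => W.tr_independent (fun z => ?_) i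
    induction z using MonoidAlgebra.induction_linear with
    | zero => simp
    | add z w h1 h2 => simp [mul_add, sum_add_distrib, h1, h2]
    | single g t =>
      rw [show single g t = t • single g (1 : k) by simp]
      simp only [map_smul, smul_eq_mul, mul_left_comm _ t, ← mul_sum]
      have := congrFun ha (cls g)
      simp only [Φ, LinearMap.coe_mk, AddHom.coe_mk, htr, Pi.zero_apply] at this
      rw [this, mul_zero]
  have hsurj : Function.Surjective Φ := by
    intro f
    obtain ⟨a, ha⟩ := W.exists_coeff_classFunction hk (c := fun g => f (cls g))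
      (fun g x => congrArg f (Subtype.ext (by
        show ConjClasses.mk _ = ConjClasses.mk _
        rw [pReg_conj]
        exact ConjClasses.mk_eq_mk_iff_isConj.2 (isConj_iff.2 ⟨x⁻¹, by group⟩))))
      (fun g => congrArg f (Subtype.ext (by
        show ConjClasses.mk _ = ConjClasses.mk _
        rw [pReg_of_regular (hcop g)])))
    refine ⟨a, funext fun c => ?_⟩
    show ∑ i, a i * W.tr i (single (r c) 1) = f c
    rw [← ha]
    refine congrArg f (Subtype.ext ?_)
    show ConjClasses.mk _ = c.1
    rw [pReg_of_regular (hr c).2, (hr c).1]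
  have := (LinearEquiv.ofBijective Φ ⟨hinj, hsurj⟩).finrank_eq
  rw [Module.finrank_pi, Module.finrank_pi, Fintype.card_fin] at this
  rw [this, Nat.card_eq_fintype_card]

/-- A vector generates the representation. -/
def Cyclic {V : Type*} [AddCommGroup V] [Module k V] (ρ : G →* Module.End k V) (v : V) : Prop :=
  Submodule.span k (Set.range fun g => ρ g v) = ⊤

/-- The representation of the `i`-th simple factor. -/
noncomputable def factor (W : Model k G) (i : Fin W.num) :
    G →* Module.End k (Fin (W.dim i) → k) where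
  toFun g := Matrix.toLin' (W.map (MonoidAlgebra.of k G g) i)
  map_one' := by rw [map_one, map_one, Pi.one_apply]; exact Matrix.toLin'_one
  map_mul' g h := by rw [map_mul, map_mul, Pi.mul_apply]; exact Matrix.toLin'_mul _ _

/-- The contragredient of the `i`-th simple factor. -/
noncomputable def cofactor (W : Model k G) (i : Fin W.num) :
    G →* Module.End k (Fin (W.dim i) → k) where
  toFun g := Matrix.toLin' (W.map (MonoidAlgebra.of k G g⁻¹) i).transpose
  map_one' := by
    rw [inv_one, map_one, map_one, Pi.one_apply, Matrix.transpose_one]; exact Matrix.toLin'_one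
  map_mul' g h := by
    rw [mul_inv_rev, map_mul, map_mul, Pi.mul_apply, Matrix.transpose_mul]
    exact Matrix.toLin'_mul _ _

omit [Fintype G] in
theorem span_factor (W : Model k G) (z : MonoidAlgebra k G) :
    W.map z ∈ Submodule.span k (Set.range fun g => W.map (MonoidAlgebra.of k G g)) := by
  induction z using MonoidAlgebra.induction_linear with
  | zero => simp
  | add z w h1 h2 => rw [map_add]; exact add_mem h1 h2
  | single g t =>
    rw [show single g t = t • single g (1 : k) by simp, map_smul]
    exact Submodule.smul_mem _ _ (Submodule.subset_span ⟨g, rfl⟩)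

omit [Fintype G] in
theorem exists_matrix_mulVec {m : Type*} [Fintype m] {v : m → k} (hv : v ≠ 0) (w : m → k) :
    ∃ A : Matrix m m k, A.mulVec v = w := by
  classical
  obtain ⟨a, ha⟩ := Function.ne_iff.1 hv
  refine ⟨Matrix.vecMulVec w (Pi.single a (v a)⁻¹), ?_⟩
  funext x
  simp only [Matrix.mulVec, dotProduct, Matrix.vecMulVec_apply]
  rw [Finset.sum_eq_single a (fun b _ hb => by simp [hb]) (by simp)]
  simp only [Pi.single_eq_same]
  rw [mul_assoc, inv_mul_cancel₀ ha, mul_one]

omit [Fintype G] in
theorem cyclic_factor (W : Model k G) (i : Fin W.num) {v : Fin (W.dim i) → k} (hv : v ≠ 0) :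
    Cyclic (factor W i) v := by
  classical
  refine eq_top_iff.2 fun w _ => ?_
  obtain ⟨A, hA⟩ := exists_matrix_mulVec hv w
  obtain ⟨z, hz⟩ := W.surj (Pi.single i A)
  have h := span_factor W z
  rw [hz] at h
  let ev : (Π j, Matrix (Fin (W.dim j)) (Fin (W.dim j)) k) →ₗ[k] (Fin (W.dim i) → k) :=
    { toFun := fun M => (M i).mulVec v
      map_add' := fun M N => Matrix.add_mulVec _ _ _
      map_smul' := fun t M => Matrix.smul_mulVec t (M i) v }
  have h2 := Submodule.mem_map_of_mem (f := ev) h
  rw [Submodule.map_span, ← Set.range_comp] at h2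
  have e : ev (Pi.single i A) = w := by simp [ev, hA]
  rw [e] at h2
  exact h2

omit [Fintype G] in
theorem cyclic_cofactor (W : Model k G) (i : Fin W.num) {v : Fin (W.dim i) → k} (hv : v ≠ 0) :
    Cyclic (cofactor W i) v := by
  classical
  refine eq_top_iff.2 fun w _ => ?_
  obtain ⟨A, hA⟩ := exists_matrix_mulVec hv w
  obtain ⟨z, hz⟩ := W.surj (Pi.single i A.transpose)
  have h := span_factor W z
  rw [hz] at h
  let ev : (Π j, Matrix (Fin (W.dim j)) (Fin (W.dim j)) k) →ₗ[k] (Fin (W.dim i) → k) :=
    { toFun := fun M => (M i).transpose.mulVec v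
      map_add' := fun M N => by simp [Matrix.transpose_add, Matrix.add_mulVec]
      map_smul' := fun t M => by simp [Matrix.transpose_smul, Matrix.smul_mulVec] }
  have h2 := Submodule.mem_map_of_mem (f := ev) h
  rw [Submodule.map_span, ← Set.range_comp] at h2
  have e : ev (Pi.single i A.transpose) = w := by simp [ev, hA]
  rw [e] at h2
  refine Submodule.span_mono ?_ h2
  rintro _ ⟨g, rfl⟩
  exact ⟨g⁻¹, by simp [cofactor, ev]⟩

omit [Fintype G] in
/-- Two different simple factors: a pair of nonzero vectors generates the product. -/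
theorem cyclic_pair (W : Model k G) {i j : Fin W.num} (hij : i ≠ j) {v : Fin (W.dim i) → k}
    {w : Fin (W.dim j) → k} (hv : v ≠ 0) (hw : w ≠ 0) :
    Submodule.span k (Set.range fun g => (factor W i g v, factor W j g w)) = ⊤ := by
  classical
  refine eq_top_iff.2 fun x _ => ?_
  obtain ⟨A, hA⟩ := exists_matrix_mulVec hv x.1
  obtain ⟨B, hB⟩ := exists_matrix_mulVec hw x.2
  obtain ⟨z, hz⟩ := W.surj (Pi.single i A + Pi.single j B)
  have h := span_factor W z
  rw [hz] at h
  let ev : (Π l, Matrix (Fin (W.dim l)) (Fin (W.dim l)) k) →ₗ[k]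
      (Fin (W.dim i) → k) × (Fin (W.dim j) → k) :=
    { toFun := fun M => ((M i).mulVec v, (M j).mulVec w)
      map_add' := fun M N => Prod.ext (Matrix.add_mulVec (M i) (N i) v) (Matrix.add_mulVec (M j) (N j) w)
      map_smul' := fun t M => Prod.ext (Matrix.smul_mulVec t (M i) v) (Matrix.smul_mulVec t (M j) w) }
  have h2 := Submodule.mem_map_of_mem (f := ev) h
  rw [Submodule.map_span, ← Set.range_comp] at h2
  have e : ev (Pi.single i A + Pi.single j B) = x := by
    simp [ev, hA, hB, hij, hij.symm]
  rw [e] at h2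
  exact h2

/-- The span of the vectors `a x - x`. -/
def augSub {V : Type*} [AddCommGroup V] [Module k V] (ρ : G →* Module.End k V) (P : Subgroup G) :
    Submodule k V :=
  Submodule.span k {y | ∃ a ∈ P, ∃ x, y = ρ a x - x}

/-- A `p`-group fixes a nonzero vector of every nonzero module in characteristic `p`. -/
theorem exists_fixed [CharP k p] {V : Type*} [AddCommGroup V] [Module k V] [Nontrivial V]
    (ρ : G →* Module.End k V) (P : Subgroup G) (hP : IsPGroup p P) :
    ∃ v : V, v ≠ 0 ∧ ∀ a ∈ P, ρ a v = v := by
  classical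
  obtain ⟨x, hx⟩ := exists_ne (0 : V)
  let A : AddSubgroup V := AddSubgroup.closure (Set.range fun a : P => ρ (a : G) x)
  have hord : ∀ v : V, p • v = 0 := fun v => by
    rw [← Nat.cast_smul_eq_nsmul k, CharP.cast_eq_zero, zero_smul]
  haveI : Finite A := by
    haveI : AddGroup.FG A := (AddGroup.fg_iff_addSubgroup_fg A).2
      ⟨(Set.range fun a : P => ρ (a : G) x).toFinset, by simp [A]⟩
    exact AddCommGroup.finite_of_fg_isAddTorsion _ fun v =>
      isOfFinAddOrder_iff_nsmul_eq_zero.2 ⟨p, hp.out.pos, Subtype.ext (hord v)⟩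
  have hxA : x ∈ A := AddSubgroup.subset_closure ⟨1, by simp⟩
  have hst : ∀ a : P, ∀ v ∈ A, ρ (a : G) v ∈ A := by
    intro a v hv
    induction hv using AddSubgroup.closure_induction with
    | mem v hv =>
      obtain ⟨b, rfl⟩ := hv
      exact AddSubgroup.subset_closure ⟨a * b, by simp [Module.End.mul_apply]⟩
    | zero => rw [map_zero]; exact zero_mem _
    | add u w _ _ h1 h2 => rw [map_add]; exact add_mem h1 h2
    | neg u _ h1 => rw [map_neg]; exact neg_mem h1
  letI : MulAction P A :=
    { smul := fun a v => ⟨ρ (a : G) v, hst a v v.2⟩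
      one_smul := fun v => Subtype.ext (by show ρ ((1 : P) : G) v = v; simp)
      mul_smul := fun a b v => Subtype.ext (by
        show ρ ((a * b : P) : G) v = ρ (a : G) (ρ (b : G) v); simp [Module.End.mul_apply]) }
  haveI : Nontrivial A := ⟨⟨⟨x, hxA⟩, 0, fun h => hx (congrArg Subtype.val h)⟩⟩
  have hdvd : p ∣ Nat.card A := by
    have h := addOrderOf_eq_prime (x := (⟨x, hxA⟩ : A)) (Subtype.ext (hord x))
      (fun h => hx (congrArg Subtype.val h))
    rw [← h]
    exact addOrderOf_dvd_natCard _
  have hz : (0 : A) ∈ MulAction.fixedPoints P A := fun a => Subtype.ext (map_zero _)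
  obtain ⟨b, hb, hne⟩ := hP.exists_fixed_point_of_prime_dvd_card_of_fixed_point A hdvd hz
  exact ⟨b, fun h => hne (Subtype.ext h.symm), fun a ha => congrArg Subtype.val (hb ⟨a, ha⟩)⟩

/-- For a `p`-group the augmentation submodule is proper. -/
theorem exists_functional [CharP k p] {V : Type*} [AddCommGroup V] [Module k V] [Nontrivial V]
    [FiniteDimensional k V] (ρ : G →* Module.End k V) (P : Subgroup G) (hP : IsPGroup p P) :
    ∃ f : V →ₗ[k] k, f ≠ 0 ∧ ∀ a ∈ P, ∀ x, f (ρ a x) = f x := by
  let σ : G →* Module.End k (V →ₗ[k] k) :=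
    { toFun := fun g => LinearMap.lcomp k k (ρ g⁻¹)
      map_one' := by ext f x; simp
      map_mul' := fun g h => by ext f x; simp [Module.End.mul_apply] }
  haveI : Nontrivial (V →ₗ[k] k) := inferInstanceAs (Nontrivial (Module.Dual k V))
  obtain ⟨f, hf, hfix⟩ := exists_fixed (p := p) σ P hP
  refine ⟨f, hf, fun a ha x => ?_⟩
  have := LinearMap.congr_fun (hfix a⁻¹ (inv_mem ha)) x
  simpa [σ] using this

end Cfsg.Agent.Chevalley.Weights
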