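import Cfsg.Agent.Chevalley.Weights.Main
import Cfsg.Agent.H37.Chev.Order
import Cfsg.Agent.Chevalley.Torus

/-!
The root datum of a tabulated Chevalley group whose diagonal subgroup is the full torus.
-/
set_option autoImplicit false
set_option linter.style.haveILetI false

namespace Cfsg.Agent.Chevalley.Weights

open Cfsg.Lie Cfsg.Agent.H37 Cfsg.Agent.H37.RootSys

variable {D : ChevalleyDatum} {F : Type*} [Field F] (Q : H37.Chev.Data D F)

/-- The torus map into the group. -/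
def torG : (Fin Q.X.n → Fˣ) →* ↥(D.group F) :=
  MonoidHom.codRestrict
    ((torus D F).comp
      { toFun := fun c m => c ⟨m.val, Q.rank_eq ▸ m.isLt⟩
        map_one' := rfl
        map_mul' := fun _ _ => rfl })
    (D.group F) fun c => by
      rw [MonoidHom.comp_apply, Q.K.torus_eq_prod]
      refine Subgroup.list_prod_mem _ fun g hg => ?_
      simp only [List.mem_map] at hg
      obtain ⟨m, -, rfl⟩ := hg
      exact Q.K.wU_mem F fun p _ => Q.K.xU_mem_group F p.1 p.2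

theorem coe_torG (c : Fin Q.X.n → Fˣ) : (torG Q c : GL D.Idx F)
    = torus D F fun m => c ⟨m.val, Q.rank_eq ▸ m.isLt⟩ := rfl

theorem coe_torG_cor {r : ℕ} (hr : r < D.nroots) (t : Fˣ) :
    (torG Q (fun j => t ^ cor D r j.val) : GL D.Idx F) = Q.K.hU F r t :=
  (Q.K.hU_eq_torus F hr t).symm

theorem coe_torG_single (i : Fin Q.X.n) (t : Fˣ) :
    (torG Q (Pi.mulSingle i t) : GL D.Idx F) = Q.K.hU F (D.simple i) t := by
  rw [← coe_torG_cor Q (simple_lt Q.X.good i) t]
  congr 2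
  funext j
  rw [Q.K.cor_simple i (Q.rank_eq.symm ▸ i.isLt) j (Q.rank_eq.symm ▸ j.isLt)]
  by_cases h : j = i
  · subst h; simp
  · rw [Pi.mulSingle_eq_of_ne h, if_neg (fun e => h (Fin.ext e)), zpow_zero]

theorem torG_range : (torG Q).range = Q.sys.H := by
  ext g
  show g ∈ (torG Q).range ↔ (g : GL D.Idx F) ∈ D.diagonalSubgroup F
  rw [Q.K.diagonalSubgroup_eq F, MonoidHom.mem_range, MonoidHom.mem_range]
  constructor
  · rintro ⟨c, rfl⟩; exact ⟨_, rfl⟩
  · rintro ⟨v, hv⟩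
    exact ⟨fun j => v ⟨j.val, Q.rank_eq.symm ▸ j.isLt⟩, Subtype.ext hv⟩

/-- The rich datum. -/
def richOf [Finite F] (hcard : Nat.card (D.diagonalSubgroup F) = (Nat.card F - 1) ^ D.rank) :
    Rich Q.sys where
  tor := torG Q
  tor_inj := by
    classical
    haveI : Fintype F := Fintype.ofFinite F
    have hsurj : Function.Surjective (torus D F).rangeRestrict :=
      (torus D F).rangeRestrict_surjective
    have hinj : Function.Injective (torus D F).rangeRestrict := by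
      refine ((Nat.bijective_iff_surjective_and_card _).2 ⟨hsurj, ?_⟩).1
      rw [← Q.K.diagonalSubgroup_eq F, hcard, Nat.card_fun, Nat.card_units,
        Nat.card_eq_fintype_card (α := Fin D.rank), Fintype.card_fin]
    intro a b h
    have h2 := hinj (a₁ := fun m => a ⟨m.val, Q.rank_eq ▸ m.isLt⟩)
      (a₂ := fun m => b ⟨m.val, Q.rank_eq ▸ m.isLt⟩)
      (Subtype.ext (congrArg Subtype.val h :))
    funext j
    exact congrFun h2 ⟨j.val, Q.rank_eq.symm ▸ j.isLt⟩
  tor_range := torG_range Q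
  cor r j := cor D r j.val
  cor_simple i j := by
    rw [Q.K.cor_simple i (Q.rank_eq.symm ▸ i.isLt) j (Q.rank_eq.symm ▸ j.isLt)]
    exact if_congr Fin.ext_iff.symm rfl rfl
  cor_sigma i j r hr hne := by
    rw [sigma_eq_w Q.X.good Q.K i.isLt hr, Q.K.cor_w i (Q.rank_eq.symm ▸ i.isLt) r hr j
      (Q.rank_eq.symm ▸ j.isLt), if_neg (fun e => hne (Fin.ext e)), sub_zero]
  cor_neg_simple i := by
    have hi : i.val < D.rank := Q.rank_eq.symm ▸ i.isLt
    rw [sigma_eq_w Q.X.good Q.K i.isLt (simple_lt Q.X.good i), Q.K.cor_w i hi _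
      (simple_lt Q.X.good i) i hi, if_pos rfl, Q.K.cor_simple i hi i hi, if_pos rfl,
      list_sum_range_map, Finset.sum_eq_single i.val (fun m hm hne => by
        rw [Q.K.cor_simple i hi m (Finset.mem_range.1 hm), if_neg hne, zero_mul])
        (fun h => absurd (Finset.mem_range.2 hi) h),
      Q.K.cor_simple i hi i hi, if_pos rfl, Q.K.cartan_self i hi]
    norm_num
  co_conj i r hr t := by
    refine Subtype.ext ?_
    show Q.K.nS F i * _ * (Q.K.nS F i)⁻¹ = _
    rw [coe_torG_cor Q hr, coe_torG_cor Q (sigma_lt Q.X.good i hr),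
      Q.K.nS_conj_hU F (Q.rank_eq.symm ▸ i.isLt) hr, sigma_eq_w Q.X.good Q.K i.isLt hr]
  sl2c i t := by
    refine Subtype.ext ?_
    show Q.K.xU F (Q.X.C.sigma i (D.simple i)) t
      = Q.K.xU F (D.simple i) ((t⁻¹ : Fˣ) : F) *
        (torG Q (Pi.mulSingle i (-t⁻¹)) : GL D.Idx F) * Q.K.nS F i *
        Q.K.xU F (D.simple i) ((t⁻¹ : Fˣ) : F)
    rw [coe_torG_single, neg_simple_eq Q.X.good Q.K i.isLt,
      RootSys.sl2 Q.K (Q.rank_eq.symm ▸ i.isLt) t.ne_zero]
    simp
  ns_sq i := by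
    refine Subtype.ext ?_
    show Q.K.nS F i * Q.K.nS F i = _
    rw [nS_sq, show ((-1 : F)) = ((-1 : Fˣ) : F) by simp, ← coe_torG_single, ← Subgroup.coe_inv,
      ← map_inv, ← Pi.mulSingle_inv, inv_neg, inv_one]
  cf r j := Q.K.cf r j.val
  cf_simple i j := by
    rw [Q.K.cf_simple i (Q.rank_eq.symm ▸ i.isLt) j (Q.rank_eq.symm ▸ j.isLt)]
    exact if_congr Fin.ext_iff.symm rfl rfl
  cf_nonneg r hr hp j := Q.K.cf_nonneg r hr hp j (Q.rank_eq.symm ▸ j.isLt)
  cf_pos r hr hp := by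
    rcases Q.X.climb r hr hp with ⟨i, hi, rfl⟩ | ⟨i, hi, hlt, hp'⟩
    · exact ⟨⟨i, hi⟩, by rw [Q.K.cf_simple i (Q.rank_eq.symm ▸ hi) i (Q.rank_eq.symm ▸ hi)]; simp⟩
    · by_contra hne
      push Not at hne
      have h0 : ∀ j, j < D.rank → Q.K.cf r j = 0 := fun j hj =>
        le_antisymm (hne ⟨j, Q.rank_eq ▸ hj⟩) (Q.K.cf_nonneg r hr hp j hj)
      refine hlt.ne (Q.K.eq_of_cf (sigma_lt Q.X.good ⟨i, hi⟩ hr) hr fun j hj => ?_)
      rw [sigma_eq_w Q.X.good Q.K hi hr, Q.K.cf_w i (Q.rank_eq.symm ▸ hi) r hr j hj, h0 j hj,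
        Q.K.cartan_lin i (Q.rank_eq.symm ▸ hi) r hr, list_sum_range_map,
        Finset.sum_eq_zero fun m hm => by rw [h0 m (Finset.mem_range.1 hm), zero_mul]]
      simp
  cf_neg r hr j := by
    rw [← Q.K.neg_eq r hr, Q.K.cf_neg r hr j (Q.rank_eq.symm ▸ j.isLt)]
  cf_ext r s hr hs h := Q.K.eq_of_cf hr hs fun j hj => h ⟨j, Q.rank_eq ▸ hj⟩
  cf_sigma i j r hr hne := by
    rw [sigma_eq_w Q.X.good Q.K i.isLt hr, Q.K.cf_w i (Q.rank_eq.symm ▸ i.isLt) r hr j
      (Q.rank_eq.symm ▸ j.isLt), if_neg (fun e => hne (Fin.ext e)), sub_zero]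
  T_cf r s k hr hs hk h := by
    obtain ⟨-, a, b, ha, hb, e⟩ := (h : Combo Q.K r s k)
    exact ⟨a, b, by exact_mod_cast ha, by exact_mod_cast hb,
      fun j => e j (Q.rank_eq.symm ▸ j.isLt)⟩
  T_up i r hr h := by
    have hi : i.val < D.rank := Q.rank_eq.symm ▸ i.isLt
    obtain ⟨b, hb⟩ := Int.eq_ofNat_of_zero_le (sub_nonneg.2 h.le)
    refine (show Combo Q.K r (D.simple i) (Q.X.C.sigma i r) from
      ⟨sigma_lt Q.X.good i hr, 1, b, one_pos, by omega, fun j hj => ?_⟩)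
    rw [Q.K.cf_simple i hi j hj]
    by_cases hji : j = i.val
    · subst hji; rw [if_pos rfl]; push_cast; linarith
    · rw [if_neg hji, sigma_eq_w Q.X.good Q.K i.isLt hr, Q.K.cf_w i hi r hr j hj, if_neg hji]
      push_cast; ring
  climb r hr hp := by
    rcases Q.X.climb r hr hp with ⟨i, hi, rfl⟩ | ⟨i, hi, hlt, hp'⟩
    · exact Or.inl ⟨⟨i, hi⟩, rfl⟩
    refine Or.inr ⟨⟨i, hi⟩, hlt, hp', ?_⟩
    have hi' : i < D.rank := Q.rank_eq.symm ▸ hi
    have hs := sigma_lt Q.X.good ⟨i, hi⟩ hr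
    have hoff : ∀ j, j < D.rank → j ≠ i → Q.K.cf (Q.X.C.sigma i r) j = Q.K.cf r j := fun j hj hji => by
      rw [sigma_eq_w Q.X.good Q.K hi hr, Q.K.cf_w i hi' r hr j hj, if_neg hji, sub_zero]
    rcases lt_trichotomy (Q.K.cf (Q.X.C.sigma i r) i) (Q.K.cf r i) with h | h | h
    · exact h
    · exact absurd (Q.K.eq_of_cf hs hr fun j hj => by
        by_cases hji : j = i
        · rw [hji, h]
        · exact hoff j hj hji) hlt.ne
    · exfalso
      obtain ⟨b, hb⟩ := Int.eq_ofNat_of_zero_le (sub_nonneg.2 h.le)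
      have hc : Combo Q.K r (D.simple i) (Q.X.C.sigma i r) :=
        ⟨hs, 1, b, one_pos, by omega, fun j hj => by
          rw [Q.K.cf_simple i hi' j hj]
          by_cases hji : j = i
          · subst hji; rw [if_pos rfl]; push_cast; linarith
          · rw [if_neg hji, hoff j hj hji]; push_cast; ring⟩
      have := (combo_pos Q.K hr hp (simple_lt Q.X.good ⟨i, hi⟩) (simple_pos Q.X.good ⟨i, hi⟩) hc).2.1
      omega

/-- Classes of `p`-regular elements of a tabulated group with full diagonal subgroup. -/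
theorem card_regClasses_chev (Q : H37.Chev.Data D F) [Fintype F] {p : ℕ} [Fact p.Prime] [CharP F p]
    (hcard : Nat.card (D.diagonalSubgroup F) = (Nat.card F - 1) ^ D.rank) :
    Nat.card (RegClasses p ↥(D.group F)) = Fintype.card F ^ D.rank := by
  rw [card_regClasses (richOf Q hcard), Q.rank_eq]

end Cfsg.Agent.Chevalley.Weights
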