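import Cfsg.Agent.Chevalley.Weights.Realise
import Mathlib.GroupTheory.FiniteAbelian.Duality
import Mathlib.RingTheory.RootsOfUnity.AlgebraicallyClosed

/-!
The number of classes of `p`-regular elements of a group with a simply connected root datum in
characteristic `p`.
-/
set_option autoImplicit false
set_option linter.style.haveILetI false
set_option linter.unusedSectionVars false

namespace Cfsg.Agent.Chevalley.Weights

open Cfsg.Lie Cfsg.Agent.H37 Cfsg.Agent.H37.RootSys Cfsg.Agent.H37.Weyl Finset
open Cfsg.Agent.H83.SimpleTrace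
open scoped Classical

variable {n : ℕ} {M : CoxeterMatrix (Fin n)} {C : Weyl.Cert} {D : ChevalleyDatum}
variable {hC : Weyl.Good C D M}

/-- The coordinates of a weight are a character or the special one. -/
noncomputable def wtcEquiv (F k : Type*) [Field F] [Field k] :
    WtC F k ≃ Option (Fˣ →* kˣ) where
  toFun x := if x.1.2 = true then none else some x.1.1
  invFun o := o.elim ⟨(1, true), fun _ => rfl⟩ fun φ => ⟨(φ, false), fun h => by simp at h⟩
  left_inv := by
    rintro ⟨⟨φ, b⟩, hb⟩
    cases b
    · rfl
    · obtain rfl : φ = 1 := hb rfl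
      rfl
  right_inv o := by cases o <;> rfl

theorem card_wtC {p : ℕ} [hp : Fact p.Prime] (F : Type*) [Field F] [Fintype F] [CharP F p] :
    Nat.card (WtC F (AlgebraicClosure F)) = Fintype.card F := by
  have hpq : p ∣ Fintype.card F :=
    (CharP.cast_eq_zero_iff F p _).1 (Nat.cast_card_eq_zero F)
  haveI : NeZero ((Monoid.exponent Fˣ : ℕ) : AlgebraicClosure F) := ⟨fun h => by
    haveI : CharP (AlgebraicClosure F) p := charP_of_injective_algebraMap'
      (R := F) (A := AlgebraicClosure F) p
    have h1 := ((CharP.cast_eq_zero_iff (AlgebraicClosure F) p _).1 h).trans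
      Group.exponent_dvd_card
    rw [Fintype.card_units] at h1
    have h2 := Nat.dvd_sub hpq h1
    rw [show Fintype.card F - (Fintype.card F - 1) = 1 by
      have := Fintype.card_pos (α := F); omega] at h2
    exact hp.out.one_lt.ne' (Nat.dvd_one.1 h2)⟩
  have hcard := CommGroup.card_monoidHom_of_hasEnoughRootsOfUnity Fˣ (AlgebraicClosure F)
  haveI : Finite (Fˣ →* (AlgebraicClosure F)ˣ) :=
    (Nat.card_ne_zero.1 (by rw [hcard]; exact Nat.card_pos.ne')).2
  rw [Nat.card_congr (wtcEquiv F (AlgebraicClosure F)), Finite.card_option, hcard,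
    Nat.card_eq_fintype_card, Fintype.card_units]
  have := Fintype.card_pos (α := F)
  omega

/-- Curtis and Richen's parametrisation of the simple modules, counted through the classes. -/
theorem card_regClasses {G F : Type*} [Group G] [Field F] [Finite G] [Fintype F] {p : ℕ}
    [hp : Fact p.Prime] [CharP F p] {S : Sys hC G F} (R : Rich S) :
    Nat.card (RegClasses p G) = Fintype.card F ^ n := by
  haveI : Fintype G := Fintype.ofFinite G
  haveI : CharP (AlgebraicClosure F) p := charP_of_injective_algebraMap'
    (R := F) (A := AlgebraicClosure F) p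
  obtain ⟨W⟩ := exists_model (k := AlgebraicClosure F) (G := G)
  rw [← num_eq_card (p := p) W (CharP.cast_eq_zero _ p)]
  have hex : ∀ i, ∃ (w : Wt n F (AlgebraicClosure F)) (v : Fin (W.dim i) → AlgebraicClosure F),
      IsWeight R (factor W i) w v := fun i => by
    haveI := nontrivial_factor W i
    exact exists_weight (p := p) R
  choose wt v hv using hex
  have hinj : Function.Injective wt := fun i j h =>
    factor_eq_of_weight W (p := p) R (hv i) (h ▸ hv j)
  have hsurj : Function.Surjective wt := fun w => by
    obtain ⟨K, u, hu⟩ := exists_realisation (k := AlgebraicClosure F) (p := p) R w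
    obtain ⟨i, x, hx⟩ := exists_factor_weight W hu
    refine ⟨i, ?_⟩
    obtain ⟨t, rfl⟩ := fixed_proportional W (p := p) R (hv i).ne (hv i).fix hx.fix
    exact ((hv i).smul (smul_ne_zero_iff.1 hx.ne).1).unique hx
  have := Nat.card_congr (Equiv.ofBijective wt ⟨hinj, hsurj⟩)
  rw [Nat.card_eq_fintype_card, Fintype.card_fin] at this
  rw [this, Nat.card_fun, Nat.card_eq_fintype_card (α := Fin n), Fintype.card_fin,
    card_wtC (p := p) F]

end Cfsg.Agent.Chevalley.Weights
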