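import Cfsg.Agent.Chevalley.Weights.Op
import Cfsg.Agent.Chevalley.Weights.Count
import Mathlib.LinearAlgebra.Eigenspace.Triangularizable

/-!
Weights of modules in the defining characteristic: existence, and the simple modules are determined
by their weights.
-/
set_option autoImplicit false
set_option linter.style.haveILetI false
set_option linter.unusedSectionVars false
set_option linter.unusedSimpArgs false
set_option linter.unusedVariables false

namespace Cfsg.Agent.Chevalley.Weights

open Cfsg.Lie Cfsg.Agent.H37 Cfsg.Agent.H37.RootSys Cfsg.Agent.H37.Weyl Finset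
open Cfsg.Agent.H83.SimpleTrace
open Cfsg.Agent.Chevalley.Hecke (Up inv_up inv_down up_of_down)
open scoped Classical

variable {n : ℕ} {M : CoxeterMatrix (Fin n)} {C : Weyl.Cert} {D : ChevalleyDatum}
variable {hC : Weyl.Good C D M} {G F : Type*} [Group G] [Field F] {S : Sys hC G F}
variable {k V : Type*} [Field k] [AddCommGroup V] [Module k V] [Fintype G] [Fintype F]
variable {ρ : G →* Module.End k V}

/-- One coordinate of a weight: a character, and whether it is the special one. -/
abbrev WtC (F k : Type*) [Field F] [Field k] : Type _ :=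
  {x : (Fˣ →* kˣ) × Bool // x.2 = true → x.1 = 1}

/-- Weights. -/
abbrev Wt (n : ℕ) (F k : Type*) [Field F] [Field k] : Type _ := Fin n → WtC F k

/-- The eigenvalue of the operator of a fundamental reflection. -/
noncomputable def wmu (x : WtC F k) : k := if x.1.1 = 1 ∧ x.1.2 = false then -1 else 0

/-- The character of the torus. -/
def wchar (w : Wt n F k) (c : Fin n → Fˣ) : k := ∏ j, (((w j).1.1 (c j) : kˣ) : k)

theorem wchar_single (w : Wt n F k) (i : Fin n) (a : Fˣ) :
    wchar w (Pi.mulSingle i a) = (((w i).1.1 a : kˣ) : k) := by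
  rw [wchar, Finset.prod_eq_single i (fun j _ hj => by rw [Pi.mulSingle_eq_of_ne hj, map_one,
    Units.val_one]) (by simp), Pi.mulSingle_eq_same]

theorem wchar_mul (w : Wt n F k) (c d : Fin n → Fˣ) :
    wchar w (c * d) = wchar w c * wchar w d := by
  simp only [wchar, Pi.mul_apply, map_mul, Units.val_mul, Finset.prod_mul_distrib]

theorem wchar_ne (w : Wt n F k) (c : Fin n → Fˣ) : wchar w c ≠ 0 :=
  Finset.prod_ne_zero_iff.2 fun _ _ => Units.ne_zero _

/-- A weight vector. -/
structure IsWeight (R : Rich S) (ρ : G →* Module.End k V) (w : Wt n F k) (v : V) : Prop where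
  ne : v ≠ 0
  fix : Fixed S ρ v
  tor : ∀ c, ρ (R.tor c) v = wchar w c • v
  op : ∀ i : Fin n, op S ρ (S.ns i) v = wmu (w i) • v

theorem pgroup_U {p : ℕ} [hp : Fact p.Prime] [CharP F p] : IsPGroup p S.U := by
  obtain ⟨m, -, hm⟩ := FiniteField.card F p
  refine IsPGroup.of_card (n := (m : ℕ) * (D.nroots / 2)) ?_
  rw [S.card_U, Nat.card_eq_fintype_card, hm, ← pow_mul]

theorem pgroup_negU (R : Rich S) {p : ℕ} [hp : Fact p.Prime] [CharP F p] :
    IsPGroup p (negU S) := by
  obtain ⟨w, hw⟩ := exists_long R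
  exact IsPGroup.to_le ((pgroup_U (S := S)).map _) (negU_le_conj hw)

/-- The transform of a weight vector by the negative subgroup spans. -/
theorem span_negU (R : Rich S) {w : Wt n F k} {v : V} (hv : IsWeight R ρ w v)
    (hcyc : Cyclic ρ v) :
    Submodule.span k (Set.range fun a : negU S => ρ (a : G) v) = ⊤ := by
  set Wv := Submodule.span k (Set.range fun a : negU S => ρ (a : G) v) with hW
  have hbase : ∀ a ∈ negU S, ρ a v ∈ Wv := fun a ha => Submodule.subset_span ⟨⟨a, ha⟩, rfl⟩
  have hlift : ∀ g : G, (∀ a ∈ negU S, ρ g (ρ a v) ∈ Wv) → ∀ x ∈ Wv, ρ g x ∈ Wv := by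
    intro g hg x hx
    induction hx using Submodule.span_induction with
    | mem y hy => obtain ⟨a, rfl⟩ := hy; exact hg a a.2
    | zero => rw [map_zero]; exact zero_mem _
    | add y z _ _ h1 h2 => rw [map_add]; exact add_mem h1 h2
    | smul t y _ h1 => rw [map_smul]; exact Submodule.smul_mem _ t h1
  let P : Submonoid G :=
    { carrier := {g | ∀ x ∈ Wv, ρ g x ∈ Wv}
      one_mem' := fun x hx => by simpa using hx
      mul_mem' := fun {a b} ha hb x hx => by
        rw [map_mul, Module.End.mul_apply]; exact ha _ (hb x hx) }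
  let K : Subgroup G :=
    { P with
      inv_mem' := fun {a} ha => by
        have h1 : a⁻¹ ∈ Submonoid.powers a := (isOfFinOrder_of_finite a).mem_powers_iff_mem_zpowers.2
          (Subgroup.inv_mem _ (Subgroup.mem_zpowers a))
        exact (Submonoid.powers_le.2 ha : Submonoid.powers a ≤ P) h1 }
  have hK : ∀ g, (∀ a ∈ negU S, ρ g (ρ a v) ∈ Wv) → g ∈ K := hlift
  have hneg : ∀ a ∈ negU S, a ∈ K := fun a ha => hK a fun b hb => by
    rw [← Module.End.mul_apply, ← map_mul]; exact hbase _ (mul_mem ha hb)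
  have hH : ∀ h ∈ S.H, h ∈ K := fun h hh => hK h fun b hb => by
    obtain ⟨c, rfl⟩ := R.exists_tor hh
    rw [← Module.End.mul_apply, ← map_mul,
      show R.tor c * b = R.tor c * b * (R.tor c)⁻¹ * R.tor c by group, map_mul,
      Module.End.mul_apply, hv.tor, map_smul]
    refine Submodule.smul_mem _ _ (hbase _ ?_)
    exact conj_mem_XS (fun r hr t => by
      obtain ⟨h1, h2⟩ := mem_negSet.1 hr
      obtain ⟨t', e⟩ := S.h_conj _ hh r h1 t
      rw [e]; exact x_mem_negU h1 h2 t') hb
  have hns : ∀ i : Fin n, S.ns i ∈ K := fun i => hK _ fun b hb => by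
    obtain ⟨b', hb', t, rfl⟩ := negU_split R i hb
    rw [← Module.End.mul_apply, ← map_mul, show S.ns i * (b' * S.x (C.sigma i (D.simple i)) t)
      = (S.ns i * b' * (S.ns i)⁻¹) * (S.ns i * S.x (C.sigma i (D.simple i)) t) by group, map_mul,
      Module.End.mul_apply]
    refine hneg _ hb' _ ?_
    -- the vectors `x_α(a) n v`
    have hxn : ∀ u : Fˣ, ρ (S.x (D.simple i) u * S.ns i) v
        = (wchar w (Pi.mulSingle i (-u⁻¹)))⁻¹ • ρ (S.x (C.sigma i (D.simple i)) (u⁻¹ : Fˣ)) v := by
      intro u
      have e := R.sl2c i u⁻¹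
      rw [inv_inv] at e
      rw [e, mul_assoc (S.x _ _), R.single_ns i, inv_neg, show ρ (S.x (D.simple i) u *
          (S.ns i * R.tor (Pi.mulSingle i (-u⁻¹))) * S.x (D.simple i) u) v
          = ρ (S.x (D.simple i) u * S.ns i)
            (ρ (R.tor (Pi.mulSingle i (-u⁻¹))) (ρ (S.x (D.simple i) u) v)) by
        rw [← Module.End.mul_apply, ← Module.End.mul_apply, ← map_mul, ← map_mul]
        congr 2
        group, hv.fix _ (S.x_mem_U (simple_lt hC i) (simple_pos hC i) _), hv.tor, map_smul,
        smul_smul, inv_mul_cancel₀ (wchar_ne w _), one_smul]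
    have hnv : ρ (S.ns i) v ∈ Wv := by
      have h1 := hv.op i
      rw [op_ns hv.fix i, sum_units, S.x_zero' (simple_lt hC i), one_mul] at h1
      rw [eq_sub_of_add_eq h1]
      refine sub_mem (Submodule.smul_mem _ _ ?_) (Submodule.sum_mem _ fun u _ => ?_)
      · simpa using hbase 1 (one_mem _)
      · rw [hxn u]
        exact Submodule.smul_mem _ _ (hbase _ (x_mem_negU (sigma_lt hC i (simple_lt hC i))
          (sigma_simple_neg hC i) _))
    by_cases ht : t = 0
    · rw [ht, S.x_zero' (sigma_lt hC i (simple_lt hC i)), mul_one]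
      exact hnv
    · have e := R.sl2c i (Units.mk0 t ht)
      rw [Units.val_mk0] at e
      set a : Fˣ := (Units.mk0 t ht)⁻¹ with ha
      obtain ⟨t', et⟩ := S.n_conj i i.isLt (D.simple i) (simple_lt hC i) a
      have hnn : S.ns i * S.x (D.simple i) a * S.ns i
          = S.x (C.sigma i (D.simple i)) t' * R.tor (Pi.mulSingle i (-1)) := by
        rw [← et, ← R.ns_sq]; group
      rw [e, mul_assoc (S.x _ _) (R.tor _), R.single_ns i, show ρ (S.ns i * (S.x (D.simple i) a *
          (S.ns i * R.tor (Pi.mulSingle i (-a)⁻¹)) * S.x (D.simple i) a)) v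
          = ρ (S.ns i * S.x (D.simple i) a * S.ns i)
            (ρ (R.tor (Pi.mulSingle i (-a)⁻¹)) (ρ (S.x (D.simple i) a) v)) by
        rw [← Module.End.mul_apply, ← Module.End.mul_apply, ← map_mul, ← map_mul]
        congr 2
        group, hv.fix _ (S.x_mem_U (simple_lt hC i) (simple_pos hC i) _), hv.tor, map_smul, hnn,
        map_mul, Module.End.mul_apply, hv.tor, map_smul]
      exact Submodule.smul_mem _ _ (Submodule.smul_mem _ _ (hbase _
        (x_mem_negU (sigma_lt hC i (simple_lt hC i)) (sigma_simple_neg hC i) _)))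
  have hrep : ∀ x : M.Group, S.rep x ∈ K := by
    refine Sys.gen_induction (p := fun x => S.rep x ∈ K) (S.rep_one ▸ one_mem _) ?_
    intro i x hx
    obtain ⟨h, hh, e⟩ := S.ns_rep (i := i) x
    rw [show S.rep (M.simple i * x) = h⁻¹ * (S.ns i * S.rep x) by rw [e, inv_mul_cancel_left]]
    exact mul_mem (hH _ (inv_mem hh)) (mul_mem (hns i) hx)
  obtain ⟨w0, hw0⟩ := exists_long R
  have htop := S.top K (fun r hr hp t => by
    obtain ⟨t', e⟩ := S.rep_conj w0 r hr t
    rw [← act_eq w0 hr] at e
    rw [show S.x r t = (S.rep w0)⁻¹ * (S.rep w0 * S.x r t * (S.rep w0)⁻¹) * S.rep w0 by group, e]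
    exact mul_mem (mul_mem (inv_mem (hrep w0))
      (hneg _ (x_mem_negU (act_lt w0 hr) (hw0 r hr hp) t'))) (hrep w0)) hH
    (fun i hi => hns ⟨i, hi⟩)
  have hvW : v ∈ Wv := by simpa using hbase 1 (one_mem _)
  refine eq_top_iff.2 (hcyc.symm.le.trans (Submodule.span_le.2 ?_))
  rintro _ ⟨g, rfl⟩
  have : g ∈ K := htop ▸ Subgroup.mem_top g
  exact this v hvW

theorem op_apply_map {V' : Type*} [AddCommGroup V'] [Module k V'] {ρ' : G →* Module.End k V'}
    (f : V →ₗ[k] V') (hf : ∀ g x, f (ρ g x) = ρ' g (f x)) (g : G) (v : V) :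
    f (op S ρ g v) = op S ρ' g (f v) := by
  simp only [op_apply, map_sum, hf]

/-- Common eigenvectors of the torus. -/
theorem exists_eigen [IsAlgClosed k] [FiniteDimensional k V] [Nontrivial V] {p : ℕ}
    [hp : Fact p.Prime] [CharP F p] [CharP k p] (R : Rich S) :
    ∃ v : V, v ≠ 0 ∧ Fixed S ρ v ∧ ∀ c, ∃ t : k, ρ (R.tor c) v = t • v := by
  let E0 : Submodule k V := ⨅ u : S.U, LinearMap.ker (ρ (u : G) - 1)
  have hE0 : ∀ x, x ∈ E0 ↔ Fixed S ρ x := fun x => by
    simp [E0, Fixed, sub_eq_zero]
  suffices ∀ T : Finset (Fin n → Fˣ), ∃ E : Submodule k V, E ≠ ⊥ ∧ E ≤ E0 ∧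
      (∀ c, ∀ x ∈ E, ρ (R.tor c) x ∈ E) ∧ ∀ c ∈ T, ∃ t : k, ∀ x ∈ E, ρ (R.tor c) x = t • x by
    obtain ⟨E, hne, hle, -, hT⟩ := this univ
    obtain ⟨x, hx, hx0⟩ := Submodule.exists_mem_ne_zero_of_ne_bot hne
    exact ⟨x, hx0, (hE0 x).1 (hle hx), fun c => ⟨_, (hT c (mem_univ c)).choose_spec x hx⟩⟩
  intro T
  induction T using Finset.induction with
  | empty =>
    refine ⟨E0, ?_, le_rfl, fun c x hx => (hE0 _).2 (((hE0 x).1 hx).torus (R.tor_mem c)),
      fun c hc => absurd hc (Finset.notMem_empty c)⟩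
    obtain ⟨v, hv, hfix⟩ := exists_fixed (p := p) ρ S.U (pgroup_U (S := S))
    exact fun h => hv ((Submodule.mem_bot k).1 (h ▸ (hE0 v).2 hfix))
  | insert a T _ ih =>
    obtain ⟨E, hne, hle, hst, hT⟩ := ih
    haveI : Nontrivial E := Submodule.nontrivial_iff_ne_bot.2 hne
    let f : Module.End k E := (ρ (R.tor a)).restrict (hst a)
    obtain ⟨μ, hμ⟩ := Module.End.exists_eigenvalue f
    obtain ⟨x, hx⟩ := hμ.exists_hasEigenvector
    have hxe : ρ (R.tor a) (x : V) = μ • (x : V) := by
      have := congrArg Subtype.val hx.apply_eq_smul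
      simpa [f] using this
    refine ⟨E ⊓ LinearMap.ker (ρ (R.tor a) - μ • 1), ?_, inf_le_left.trans hle, ?_, ?_⟩
    · intro h
      have hm : (x : V) ∈ E ⊓ LinearMap.ker (ρ (R.tor a) - μ • 1) :=
        ⟨x.2, by simp [hxe]⟩
      rw [h, Submodule.mem_bot] at hm
      exact hx.2 (Subtype.ext hm)
    · rintro c y ⟨hy, hy'⟩
      refine ⟨hst c y hy, ?_⟩
      simp only [SetLike.mem_coe, LinearMap.mem_ker, LinearMap.sub_apply, LinearMap.smul_apply,
        Module.End.one_apply, sub_eq_zero] at hy' ⊢
      rw [← Module.End.mul_apply, ← map_mul, ← map_mul, mul_comm, map_mul, map_mul,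
        Module.End.mul_apply, hy', map_smul]
    · intro c hc
      rcases Finset.mem_insert.1 hc with rfl | hc
      · refine ⟨μ, fun y hy => ?_⟩
        have := hy.2
        simpa [sub_eq_zero] using this
      · obtain ⟨t, ht⟩ := hT c hc
        exact ⟨t, fun y hy => ht y hy.1⟩

/-- The character attached to an eigenvector of a coroot subgroup. -/
theorem exists_char {u : V} (hu : u ≠ 0) (f : Fˣ →* G) (h : ∀ a, ∃ t : k, ρ (f a) u = t • u) :
    ∃ φ : Fˣ →* kˣ, ∀ a, ρ (f a) u = (φ a : k) • u := by
  choose t ht using h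
  have hne : ∀ a, t a ≠ 0 := fun a h0 => hu (by
    have e : ρ (f a⁻¹) (ρ (f a) u) = u := by
      rw [← Module.End.mul_apply, ← map_mul, ← map_mul, inv_mul_cancel, map_one, map_one,
        Module.End.one_apply]
    rw [← e, ht, h0, zero_smul, map_zero])
  refine ⟨{ toFun := fun a => Units.mk0 (t a) (hne a)
            map_one' := ?_, map_mul' := fun a b => ?_ }, fun a => ht a⟩
  · refine Units.ext (smul_left_injective k hu ?_)
    show t 1 • u = (1 : k) • u
    rw [← ht, map_one, map_one, Module.End.one_apply, one_smul]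
  · refine Units.ext (smul_left_injective k hu ?_)
    show t (a * b) • u = (t a * t b) • u
    rw [← ht, map_mul, map_mul, Module.End.mul_apply, ht, map_smul, ht, smul_smul, mul_comm]

/-- Every nonzero module has a weight vector. -/
theorem exists_weight [IsAlgClosed k] [FiniteDimensional k V] [Nontrivial V] {p : ℕ}
    [hp : Fact p.Prime] [CharP F p] [CharP k p] (R : Rich S) :
    ∃ (w : Wt n F k) (v : V), IsWeight R ρ w v := by
  obtain ⟨v0, hv0, hfix0, heig0⟩ := exists_eigen (ρ := ρ) (p := p) R
  haveI := hC.finite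
  haveI : Nonempty {x : M.Group // op S ρ (S.rep x) v0 ≠ 0} :=
    ⟨⟨1, by rw [S.rep_one, op_one hfix0]; exact hv0⟩⟩
  obtain ⟨⟨x, hx⟩, hmax⟩ := Finite.exists_max
    fun x : {x : M.Group // op S ρ (S.rep x) v0 ≠ 0} => hC.inv x.1⁻¹
  set u := op S ρ (S.rep x) v0 with hu
  have hufix : Fixed S ρ u := op_fixed hfix0 _
  have heig : ∀ h ∈ S.H, ∃ t : k, ρ h u = t • u := by
    intro h hh
    have hh' : (S.rep x)⁻¹ * h * S.rep x ∈ S.H := Rich.conj_inv_mem_H (Rich.rep_norm x) hh
    obtain ⟨c, hc⟩ := R.exists_tor hh'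
    obtain ⟨t, ht⟩ := heig0 c
    exact ⟨t, op_eigen hfix0 hh (hc ▸ hh') (by rw [hc]; group) ht⟩
  have hchar : ∀ i : Fin n, ∃ φ : Fˣ →* kˣ, ∀ a, ρ (R.tor (Pi.mulSingle i a)) u = (φ a : k) • u :=
    fun i => exists_char hx (R.tor.comp (MonoidHom.mulSingle (fun _ : Fin n => Fˣ) i))
      fun a => heig _ (R.tor_mem _)
  choose φ hφ using hchar
  have htor : ∀ c, ρ (R.tor c) u = (∏ j, (φ j (c j) : k)) • u := by
    intro c
    conv_lhs => rw [← Finset.univ_prod_mulSingle c]
    suffices ∀ T : Finset (Fin n), ρ (R.tor (∏ j ∈ T, Pi.mulSingle j (c j))) u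
        = (∏ j ∈ T, (φ j (c j) : k)) • u from this univ
    intro T
    induction T using Finset.induction with
    | empty => simp
    | insert j T hj ih =>
      rw [Finset.prod_insert hj, Finset.prod_insert hj, map_mul, map_mul, Module.End.mul_apply, ih,
        map_smul, hφ, smul_smul, mul_comm]
  have hop : ∀ i : Fin n, ∃ μ : k, op S ρ (S.ns i) u = μ • u ∧
      ((φ i = 1 ∧ μ = -1) ∨ μ = 0) := by
    intro i
    obtain ⟨μ, hμ⟩ : ∃ μ : k, op S ρ (S.ns i) u = μ • u := by
      by_cases hup : Up hC x⁻¹ i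
      · refine ⟨0, ?_⟩
        obtain ⟨h, hh, e⟩ := S.ns_rep (i := i) x
        rw [zero_smul, hu, op_left_up hfix0 hup, e, op_H_mul hfix0 _ hh]
        suffices op S ρ (S.rep (M.simple i * x)) v0 = 0 by rw [this, map_zero]
        by_contra hne
        have h1 : hC.inv (M.simple i * x)⁻¹ ≤ hC.inv x⁻¹ := hmax ⟨_, hne⟩
        rw [mul_inv_rev, simple_inv, inv_up hC hup] at h1
        omega
      · set y := M.simple i * x with hy
        have hup' : Up hC y⁻¹ i := by
          rw [hy, mul_inv_rev, simple_inv]; exact up_of_down hC hup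
        obtain ⟨h, hh, e⟩ := S.ns_rep (i := i) y
        rw [hy, ← mul_assoc, simple_mul_self, one_mul, ← hy] at e
        obtain ⟨t, ht⟩ := heig h hh
        have hcomp : op S ρ (S.ns i) (op S ρ (S.rep y) v0) = t • u := by
          rw [op_left_up hfix0 hup', e, op_H_mul hfix0 _ hh, ← hu, ht]
        have ht0 : t ≠ 0 := fun h0 => hx (by
          have e' : ρ h⁻¹ (ρ h u) = u := by
            rw [← Module.End.mul_apply, ← map_mul, inv_mul_cancel, map_one, Module.End.one_apply]
          rw [← e', ht, h0, zero_smul, map_zero])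
        have hyfix : Fixed S ρ (op S ρ (S.rep y) v0) := op_fixed hfix0 _
        have heigy : ∀ a, ∃ s : k,
            ρ (R.tor (Pi.mulSingle i a)) (op S ρ (S.rep y) v0) = s • op S ρ (S.rep y) v0 := by
          intro a
          have hh' : (S.rep y)⁻¹ * R.tor (Pi.mulSingle i a) * S.rep y ∈ S.H :=
            Rich.conj_inv_mem_H (Rich.rep_norm y) (R.tor_mem _)
          obtain ⟨c, hc⟩ := R.exists_tor hh'
          obtain ⟨s, hs⟩ := heig0 c
          exact ⟨s, op_eigen hfix0 (R.tor_mem _) (hc ▸ hh') (by rw [hc]; group) hs⟩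
        choose ψ hψ using heigy
        refine ⟨∑ a, ψ a, ?_⟩
        have hsq := R.op_ns_sq (p := p) hyfix i hψ
        rw [hcomp, map_smul, smul_comm] at hsq
        exact smul_right_injective V ht0 hsq
    refine ⟨μ, hμ, ?_⟩
    have hsq := R.op_ns_sq (p := p) hufix i (φ := fun a => (φ i a : k)) (hφ i)
    rw [hμ, map_smul, hμ, smul_smul, smul_smul] at hsq
    have hsq' := smul_left_injective k hx hsq
    by_cases hμ0 : μ = 0
    · exact Or.inr hμ0
    have hμc : μ = ∑ a, (φ i a : k) := mul_right_cancel₀ hμ0 hsq'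
    by_cases h1 : φ i = 1
    · refine Or.inl ⟨h1, ?_⟩
      rw [hμc, h1]
      simp only [MonoidHom.one_apply, Units.val_one, Finset.sum_const, card_univ, nsmul_one]
      rw [Fintype.card_units, Nat.cast_sub Fintype.card_pos, (CharP.cast_eq_zero_iff k p _).2
        ((CharP.cast_eq_zero_iff F p _).1 (Nat.cast_card_eq_zero F))]
      simp
    · exfalso
      refine hμ0 (hμc.trans (sum_hom_units_eq_zero ((Units.coeHom k).comp (φ i)) fun h => h1 ?_))
      ext a
      exact congrArg (fun g : Fˣ →* k => g a) h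
  choose μ hμ hμcase using hop
  let b : Fin n → Bool := fun i => decide (φ i = 1 ∧ μ i = 0)
  refine ⟨fun i => ⟨(φ i, b i), fun h => (of_decide_eq_true h).1⟩, u, hx, hufix, htor, fun i => ?_⟩
  rw [hμ]
  congr 1
  rcases hμcase i with ⟨h1, h2⟩ | h2
  · simp [wmu, b, h1, h2]
  · by_cases h1 : φ i = 1 <;> simp [wmu, b, h1, h2]

theorem wmu_inj {x y : WtC F k} (h1 : x.1.1 = y.1.1) (h2 : wmu x = wmu y) : x = y := by
  obtain ⟨⟨φ, a⟩, ha⟩ := x
  obtain ⟨⟨ψ, b⟩, hb⟩ := y
  simp only at h1 ha hb
  subst h1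
  cases a <;> cases b <;> simp_all [wmu]

/-- The weight of a weight vector is unique. -/
theorem IsWeight.unique {R : Rich S} {w w' : Wt n F k} {v : V} (h : IsWeight R ρ w v)
    (h' : IsWeight R ρ w' v) : w = w' := by
  funext i
  refine wmu_inj ?_ (smul_left_injective k h.ne ((h.op i).symm.trans (h'.op i)))
  ext a
  rw [← wchar_single w, ← wchar_single w']
  exact smul_left_injective k h.ne ((h.tor _).symm.trans (h'.tor _))

theorem IsWeight.smul {R : Rich S} {w : Wt n F k} {v : V} (h : IsWeight R ρ w v) {t : k}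
    (ht : t ≠ 0) : IsWeight R ρ w (t • v) :=
  ⟨smul_ne_zero ht h.ne, h.fix.smul t, fun c => by rw [map_smul, h.tor, smul_comm],
    fun i => by rw [map_smul, h.op, smul_comm]⟩

/-! ### simple factors -/

variable (W : Model k G)

theorem factor_apply (i : Fin W.num) (g : G) (x : Fin (W.dim i) → k) :
    factor W i g x = (W.map (MonoidAlgebra.of k G g) i).mulVec x := by
  simp [factor, Matrix.toLin'_apply]

theorem dot_cofactor (i : Fin W.num) (g : G) (f x : Fin (W.dim i) → k) :
    dotProduct (cofactor W i g f) x = dotProduct f (factor W i g⁻¹ x) := by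
  simp only [cofactor, factor_apply, MonoidHom.coe_mk, OneHom.coe_mk, Matrix.toLin'_apply,
    Matrix.mulVec_transpose]
  rw [Matrix.dotProduct_mulVec]

theorem nontrivial_factor (i : Fin W.num) : Nontrivial (Fin (W.dim i) → k) := by
  haveI := W.dim_ne i
  infer_instance

/-- Vectors fixed by `U` in a simple factor are proportional. -/
theorem fixed_proportional [IsAlgClosed k] {p : ℕ} [hp : Fact p.Prime] [CharP F p] [CharP k p]
    (R : Rich S) {i : Fin W.num} {v v' : Fin (W.dim i) → k} (hv0 : v ≠ 0)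
    (hv : Fixed S (factor W i) v) (hv' : Fixed S (factor W i) v') : ∃ t : k, v' = t • v := by
  haveI := nontrivial_factor W i
  obtain ⟨w, f, hf⟩ := exists_weight (ρ := cofactor W i) (p := p) R
  obtain ⟨w0, hw0⟩ := exists_long R
  have hspan := span_negU R hf (cyclic_cofactor W i hf.ne)
  have key : ∀ x, (∀ a ∈ negU S, factor W i a x = x) → dotProduct f x = 0 → x = 0 := by
    intro x hx h0
    refine dotProduct_eq_zero _ fun y => ?_
    rw [dotProduct_comm]
    have hy : y ∈ Submodule.span k (Set.range fun a : negU S => cofactor W i (a : G) f) :=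
      hspan.symm ▸ Submodule.mem_top
    induction hy using Submodule.span_induction with
    | mem z hz => obtain ⟨a, rfl⟩ := hz; rw [dot_cofactor, hx _ (inv_mem a.2), h0]
    | zero => simp
    | add z z' _ _ h1 h2 => simp [add_dotProduct, h1, h2]
    | smul t z _ h1 => simp [smul_dotProduct, h1]
  have hneg : ∀ x, Fixed S (factor W i) x → ∀ a ∈ negU S,
      factor W i a (factor W i (S.rep w0) x) = factor W i (S.rep w0) x := by
    intro x hx a ha
    obtain ⟨u, hu, rfl⟩ := negU_le_conj hw0 ha
    rw [← Module.End.mul_apply, ← map_mul]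
    simp only [MulEquiv.toMonoidHom_eq_coe, MonoidHom.coe_coe, MulAut.conj_apply,
      inv_mul_cancel_right]
    rw [map_mul, Module.End.mul_apply, hx u hu]
  set N := factor W i (S.rep w0)
  have hNinj : ∀ x, N x = 0 → x = 0 := fun x hx => by
    have e : factor W i (S.rep w0)⁻¹ (N x) = x := by
      rw [← Module.End.mul_apply, ← map_mul, inv_mul_cancel, map_one, Module.End.one_apply]
    rw [← e, hx, map_zero]
  have hne : dotProduct f (N v) ≠ 0 := fun h => hv0 (hNinj v (key _ (hneg v hv) h))
  refine ⟨dotProduct f (N v') / dotProduct f (N v), ?_⟩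
  set t := dotProduct f (N v') / dotProduct f (N v)
  have hd : Fixed S (factor W i) (v' - t • v) := fun u hu => by
    rw [map_sub, map_smul, hv' u hu, hv u hu]
  refine sub_eq_zero.1 (hNinj _ (key _ (hneg _ hd) ?_))
  rw [map_sub, map_smul, dotProduct_sub, dotProduct_smul, smul_eq_mul, div_mul_cancel₀ _ hne,
    sub_self]

/-- Two simple factors with the same weight coincide. -/
theorem factor_eq_of_weight {p : ℕ} [hp : Fact p.Prime] [CharP F p] [CharP k p] (R : Rich S)
    {i j : Fin W.num} {w : Wt n F k} {v : Fin (W.dim i) → k} {v' : Fin (W.dim j) → k}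
    (hv : IsWeight R (factor W i) w v) (hv' : IsWeight R (factor W j) w v') : i = j := by
  by_contra hij
  haveI := nontrivial_factor W i
  haveI := nontrivial_factor W j
  let π : G →* Module.End k ((Fin (W.dim i) → k) × (Fin (W.dim j) → k)) :=
    { toFun := fun g => (factor W i g).prodMap (factor W j g)
      map_one' := by ext <;> simp
      map_mul' := fun a b => by ext <;> simp }
  have hpair : IsWeight R π w (v, v') := by
    refine ⟨fun h => hv.ne (congrArg Prod.fst h), fun u hu => Prod.ext (hv.fix u hu) (hv'.fix u hu),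
      fun c => Prod.ext (hv.tor c) (hv'.tor c), fun l => Prod.ext ?_ ?_⟩
    · exact (op_apply_map (S := S) (ρ := π) (ρ' := factor W i) (LinearMap.fst k _ _)
        (fun _ _ => rfl) (S.ns l) (v, v')).trans (hv.op l)
    · exact (op_apply_map (S := S) (ρ := π) (ρ' := factor W j) (LinearMap.snd k _ _)
        (fun _ _ => rfl) (S.ns l) (v, v')).trans (hv'.op l)
  have hspan := span_negU R hpair (cyclic_pair W hij hv.ne hv'.ne)
  obtain ⟨f, hf0, hf⟩ := exists_functional (p := p) (factor W i) (negU S) (pgroup_negU R)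
  obtain ⟨g, hg0, hg⟩ := exists_functional (p := p) (factor W j) (negU S) (pgroup_negU R)
  have hall : ∀ x : (Fin (W.dim i) → k) × (Fin (W.dim j) → k), f v * g x.2 = g v' * f x.1 := by
    intro x
    have hx : x ∈ Submodule.span k (Set.range fun a : negU S => π (a : G) (v, v')) :=
      hspan.symm ▸ Submodule.mem_top
    induction hx using Submodule.span_induction with
    | mem z hz =>
      obtain ⟨a, rfl⟩ := hz
      show f v * g (factor W j a v') = g v' * f (factor W i a v)
      rw [hf a a.2, hg a a.2, mul_comm]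
    | zero => simp
    | add z z' _ _ h1 h2 => simp [mul_add, h1, h2]
    | smul t z _ h1 => simp [mul_left_comm _ t, h1]
  obtain ⟨y, hy⟩ : ∃ y, f y ≠ 0 := by
    by_contra h; push Not at h; exact hf0 (LinearMap.ext h)
  have hgv : g v' = 0 := by
    have := hall (y, 0)
    simp only [map_zero, mul_zero] at this
    exact (mul_eq_zero.1 this.symm).resolve_right hy
  refine hg0 (LinearMap.ext_on_range (M := Fin (W.dim j) → k) (v := fun a : negU S =>
    factor W j (a : G) v') (span_negU R hv' (cyclic_factor W j hv'.ne)) fun a => ?_)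
  rw [hg _ a.2, hgv, LinearMap.zero_apply]

/-- A simple factor killed by the annihilator of a given vector. -/
theorem exists_factor {u : V} (hu : u ≠ 0) :
    ∃ (i : Fin W.num) (x : Fin (W.dim i) → k), x ≠ 0 ∧
      ∀ z, MonoidAlgebra.lift k (Module.End k V) G ρ z u = 0 → (W.map z i).mulVec x = 0 := by
  by_contra hcon
  push Not at hcon
  set L := MonoidAlgebra.lift k (Module.End k V) G ρ
  have hone : ∀ i, ∃ z, L z u = 0 ∧ W.map z = Pi.single i 1 := by
    intro i
    let A : Submodule k (MonoidAlgebra k G) :=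
      LinearMap.ker ((LinearMap.applyₗ u).comp L.toLinearMap)
    have hA : ∀ z, z ∈ A ↔ L z u = 0 := fun z => Iff.rfl
    let B : Submodule k (Fin (W.dim i) → k) :=
      Submodule.span k {r | ∃ z ∈ A, ∃ c, r = W.map z i c}
    have hB : B = ⊤ := by
      by_contra hne
      obtain ⟨φ, hφ0, hφ⟩ := Submodule.exists_le_ker_of_lt_top B (lt_top_iff_ne_top.2 hne)
      have hx : ∀ r, φ r = dotProduct r (fun c => φ (Pi.single c 1)) := fun r => by
        conv_lhs => rw [← Finset.univ_sum_single r]
        rw [map_sum, dotProduct]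
        refine Finset.sum_congr rfl fun c _ => ?_
        rw [show Pi.single c (r c) = r c • Pi.single (M := fun _ => k) c (1 : k) by
          rw [← Pi.single_smul, smul_eq_mul, mul_one], map_smul, smul_eq_mul]
      refine hφ0 (LinearMap.ext fun r => ?_)
      have hx0 : (fun c => φ (Pi.single c 1)) = 0 := by
        by_contra hne'
        obtain ⟨z, hz, hne2⟩ := hcon i _ hne'
        refine hne2 (funext fun c => ?_)
        show dotProduct (W.map z i c) _ = 0
        rw [← hx]
        exact hφ (Submodule.subset_span ⟨z, (hA z).2 hz, c, rfl⟩)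
      rw [hx r, hx0, dotProduct_zero, LinearMap.zero_apply]
    have hrow : ∀ a, ∀ r ∈ B, ∃ z ∈ A, W.map z = Pi.single i (Matrix.vecMulVec (Pi.single a 1) r) := by
      intro a r hr
      induction hr using Submodule.span_induction with
      | mem r hr =>
        obtain ⟨z, hz, c, rfl⟩ := hr
        obtain ⟨e, he⟩ := W.surj (Pi.single i (Matrix.single a c (1 : k)))
        refine ⟨e * z, (hA _).2 (by rw [map_mul, Module.End.mul_apply, (hA z).1 hz, map_zero]), ?_⟩
        rw [map_mul, he]
        funext l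
        by_cases hl : l = i
        · subst hl
          rw [Pi.mul_apply, Pi.single_eq_same, Pi.single_eq_same]
          ext x y
          by_cases hxa : x = a
          · subst hxa; simp [Matrix.vecMulVec_apply]
          · simp [Matrix.vecMulVec_apply, hxa, Ne.symm hxa]
        · simp [hl]
      | zero => exact ⟨0, zero_mem _, by ext; simp [Matrix.vecMulVec_apply]⟩
      | add r r' _ _ h1 h2 =>
        obtain ⟨z, hz, e⟩ := h1
        obtain ⟨z', hz', e'⟩ := h2
        exact ⟨z + z', add_mem hz hz', by rw [map_add, e, e', ← Pi.single_add, Matrix.vecMulVec_add]⟩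
      | smul t r _ h1 =>
        obtain ⟨z, hz, e⟩ := h1
        exact ⟨t • z, Submodule.smul_mem _ _ hz, by
          rw [map_smul, e, ← Pi.single_smul, Matrix.vecMulVec_smul]⟩
    choose z hz he using fun a => hrow a (Pi.single a 1) (hB ▸ Submodule.mem_top)
    refine ⟨∑ a, z a, (hA _).1 (Submodule.sum_mem _ fun a _ => hz a), ?_⟩
    rw [map_sum, Finset.sum_congr rfl fun a _ => he a]
    funext l
    by_cases hl : l = i
    · subst hl
      rw [Finset.sum_apply, Pi.single_eq_same]
      simp only [Pi.single_eq_same]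
      ext x y
      simp [Matrix.sum_apply, Matrix.vecMulVec_apply, Matrix.one_apply, Pi.single_apply,
        Finset.sum_ite_eq, eq_comm]
    · simp [Finset.sum_apply, hl]
  choose z hz he using hone
  have hmap : W.map (∑ i, z i) = 1 := by
    rw [map_sum, Finset.sum_congr rfl fun i _ => he i]
    exact Finset.univ_sum_single (1 : Π l, Matrix (Fin (W.dim l)) (Fin (W.dim l)) k)
  have hnil : IsNilpotent (1 - ∑ i, z i) := W.nil _ (by rw [map_sub, map_one, hmap, sub_self])
  obtain ⟨y, hy⟩ := hnil.isUnit_one_sub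
  rw [sub_sub_cancel] at hy
  refine hu ?_
  have h0 : L (∑ i, z i) u = 0 := by
    rw [map_sum, LinearMap.sum_apply, Finset.sum_eq_zero fun i _ => hz i]
  have h1 : L ((↑y⁻¹ : MonoidAlgebra k G) * ∑ i, z i) u = 0 := by
    rw [map_mul, Module.End.mul_apply, h0, map_zero]
  rwa [← hy, Units.inv_mul, map_one, Module.End.one_apply] at h1

/-- A weight vector anywhere gives one in a simple factor. -/
theorem exists_factor_weight {R : Rich S} {w : Wt n F k} {u : V} (hu : IsWeight R ρ w u) :
    ∃ (i : Fin W.num) (x : Fin (W.dim i) → k), IsWeight R (factor W i) w x := by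
  obtain ⟨i, x, hx, h⟩ := exists_factor W (ρ := ρ) hu.ne
  refine ⟨i, x, hx, fun a ha => ?_, fun c => ?_, fun l => ?_⟩
  · have := h (MonoidAlgebra.of k G a - 1) (by simp [hu.fix a ha])
    rw [map_sub, map_one, Pi.sub_apply, Pi.one_apply, Matrix.sub_mulVec, Matrix.one_mulVec,
      sub_eq_zero] at this
    rwa [factor_apply]
  · have := h (MonoidAlgebra.of k G (R.tor c) - wchar w c • 1) (by simp [hu.tor c])
    rw [map_sub, map_smul, map_one, Pi.sub_apply, Pi.smul_apply, Pi.one_apply, Matrix.sub_mulVec,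
      Matrix.smul_mulVec, Matrix.one_mulVec, sub_eq_zero] at this
    rwa [factor_apply]
  · have := h (∑ c ∈ orb S (S.ns l), MonoidAlgebra.of k G c.out - wmu (w l) • 1)
      (by
        have := hu.op l
        rw [op_apply] at this
        simp [this])
    rw [map_sub, map_smul, map_one, map_sum, Pi.sub_apply, Pi.smul_apply, Pi.one_apply,
      Finset.sum_apply, Matrix.sub_mulVec, Matrix.smul_mulVec, Matrix.one_mulVec, sub_eq_zero,
      Matrix.sum_mulVec] at this
    rw [op_apply, ← this]
    exact Finset.sum_congr rfl fun c _ => factor_apply W i _ x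

end Cfsg.Agent.Chevalley.Weights
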