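import Cfsg.Agent.Chevalley.Weights.Basic

/-!
The operators `∑_{c ⊆ U g U} c` on vectors fixed by `U`.
-/
set_option autoImplicit false
set_option linter.unusedSectionVars false

namespace Cfsg.Agent.Chevalley.Weights

open Cfsg.Lie Cfsg.Agent.H37 Cfsg.Agent.H37.RootSys Cfsg.Agent.H37.Weyl Finset
open Cfsg.Agent.Chevalley.Hecke (Up inv_up inv_down up_of_down)
open scoped Classical

variable {n : ℕ} {M : CoxeterMatrix (Fin n)} {C : Weyl.Cert} {D : ChevalleyDatum}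
variable {hC : Weyl.Good C D M} {G F : Type*} [Group G] [Field F] {S : Sys hC G F}
variable {k V : Type*} [Field k] [AddCommGroup V] [Module k V] [Fintype G]
variable (ρ : G →* Module.End k V)

open Classical in
/-- The cosets of `U` inside `U g U`. -/
noncomputable def orb (S : Sys hC G F) (g : G) : Finset (G ⧸ S.U) :=
  univ.image fun u : S.U => (QuotientGroup.mk ((u : G) * g) : G ⧸ S.U)

theorem mem_orb {g : G} {c : G ⧸ S.U} :
    c ∈ orb S g ↔ ∃ u ∈ S.U, (QuotientGroup.mk (u * g) : G ⧸ S.U) = c := by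
  classical simp [orb]

/-- The operator of `g`. -/
noncomputable def op (S : Sys hC G F) (ρ : G →* Module.End k V) (g : G) : Module.End k V :=
  ∑ c ∈ orb S g, ρ c.out

theorem op_apply (g : G) (v : V) : op S ρ g v = ∑ c ∈ orb S g, ρ c.out v := by
  simp [op, LinearMap.sum_apply]

/-- A vector fixed by `U`. -/
def Fixed (S : Sys hC G F) (ρ : G →* Module.End k V) (v : V) : Prop := ∀ u ∈ S.U, ρ u v = v

variable {ρ} {v : V}

theorem Fixed.coset (hv : Fixed S ρ v) {g g' : G}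
    (h : (QuotientGroup.mk g : G ⧸ S.U) = QuotientGroup.mk g') : ρ g v = ρ g' v := by
  have h' := QuotientGroup.eq.1 h
  rw [show g' = g * (g⁻¹ * g') by group, map_mul, Module.End.mul_apply, hv _ h']

theorem Fixed.smul (hv : Fixed S ρ v) (t : k) : Fixed S ρ (t • v) := fun u hu => by
  rw [map_smul, hv u hu]

theorem Fixed.torus (hv : Fixed S ρ v) {h : G} (hh : h ∈ S.H) : Fixed S ρ (ρ h v) := fun u hu => by
  rw [← Module.End.mul_apply, ← map_mul, show u * h = h * (h⁻¹ * u * h) by group, map_mul,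
    Module.End.mul_apply, hv _ (by simpa using S.H_conj_U (inv_mem hh) hu)]

theorem op_eq_of_inj (hv : Fixed S ρ v) {ι : Type*} [Fintype ι] {g : G} (a : ι → G)
    (hmem : ∀ i, (QuotientGroup.mk (a i) : G ⧸ S.U) ∈ orb S g)
    (hsurj : ∀ u ∈ S.U, ∃ i, (QuotientGroup.mk (a i) : G ⧸ S.U) = QuotientGroup.mk (u * g))
    (hinj : Function.Injective fun i => (QuotientGroup.mk (a i) : G ⧸ S.U)) :
    op S ρ g v = ∑ i, ρ (a i) v := by
  rw [op_apply]
  symm
  refine Finset.sum_bij (fun i _ => (QuotientGroup.mk (a i) : G ⧸ S.U)) (fun i _ => hmem i)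
    (fun i _ j _ h => hinj h) (fun c hc => ?_) (fun i _ => ?_)
  · obtain ⟨u, hu, rfl⟩ := mem_orb.1 hc
    obtain ⟨i, hi⟩ := hsurj u hu
    exact ⟨i, mem_univ _, hi⟩
  · exact hv.coset (Quotient.out_eq _).symm

theorem op_eq_of_card (hv : Fixed S ρ v) {ι : Type*} [Fintype ι] {g : G} (a : ι → G)
    (hmem : ∀ i, (QuotientGroup.mk (a i) : G ⧸ S.U) ∈ orb S g)
    (hsurj : ∀ u ∈ S.U, ∃ i, (QuotientGroup.mk (a i) : G ⧸ S.U) = QuotientGroup.mk (u * g))
    (hcard : Fintype.card ι = (orb S g).card) :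
    op S ρ g v = ∑ i, ρ (a i) v := by
  refine op_eq_of_inj hv a hmem hsurj ?_
  classical
  let f : ι → {c // c ∈ orb S g} := fun i => ⟨_, hmem i⟩
  have hf : Function.Surjective f := fun c => by
    obtain ⟨u, hu, e⟩ := mem_orb.1 c.2
    obtain ⟨i, hi⟩ := hsurj u hu
    exact ⟨i, Subtype.ext (hi.trans e)⟩
  have := (Fintype.bijective_iff_surjective_and_card f).2
    ⟨hf, by rw [hcard, Fintype.card_coe]⟩
  exact fun i j h => this.1 (Subtype.ext h)

theorem op_fixed (hv : Fixed S ρ v) (g : G) : Fixed S ρ (op S ρ g v) := fun u hu => by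
  rw [op_apply, map_sum]
  refine Finset.sum_equiv (MulAction.toPerm u) (fun c => ?_) (fun c _ => ?_)
  · simp only [MulAction.toPerm_apply, mem_orb]
    constructor
    · rintro ⟨a, ha, rfl⟩
      exact ⟨u * a, mul_mem hu ha, by rw [mul_assoc]; rfl⟩
    · rintro ⟨a, ha, e⟩
      refine ⟨u⁻¹ * a, mul_mem (inv_mem hu) ha, ?_⟩
      rw [← inv_smul_smul u c, ← e, mul_assoc]
      rfl
  · rw [← Module.End.mul_apply, ← map_mul]
    refine hv.coset ?_
    show (QuotientGroup.mk (u * c.out) : G ⧸ S.U) = QuotientGroup.mk ((u • c).out)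
    rw [QuotientGroup.out_eq']
    conv_rhs => rw [← QuotientGroup.out_eq' c]
    rfl

theorem op_mul_H (hv : Fixed S ρ v) (g : G) {h : G} (hh : h ∈ S.H) :
    op S ρ (g * h) v = op S ρ g (ρ h v) := by
  rw [op_eq_of_inj hv (ι := {c // c ∈ orb S g}) (fun c => c.1.out * h) ?_ ?_ ?_, op_apply,
    ← Finset.sum_coe_sort (orb S g)]
  · exact Finset.sum_congr rfl fun c _ => by rw [map_mul, Module.End.mul_apply]
  · rintro ⟨c, hc⟩
    obtain ⟨u, hu, e⟩ := mem_orb.1 hc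
    refine mem_orb.2 ⟨u, hu, QuotientGroup.eq.2 ?_⟩
    have h1 : (u * g)⁻¹ * c.out ∈ S.U := QuotientGroup.eq.1 (by rw [QuotientGroup.out_eq', e])
    simpa [mul_assoc] using S.H_conj_U (inv_mem hh) h1
  · intro u hu
    refine ⟨⟨QuotientGroup.mk (u * g), mem_orb.2 ⟨u, hu, rfl⟩⟩, QuotientGroup.eq.2 ?_⟩
    have h1 : (QuotientGroup.mk (u * g) : G ⧸ S.U).out⁻¹ * (u * g) ∈ S.U :=
      QuotientGroup.eq.1 (QuotientGroup.out_eq' _)
    simpa [mul_assoc] using S.H_conj_U (inv_mem hh) h1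
  · intro c c' hcc
    have h1 := S.H_conj_U hh (QuotientGroup.eq.1 hcc)
    refine Subtype.ext ?_
    rw [← QuotientGroup.out_eq' c.1, ← QuotientGroup.out_eq' c'.1]
    exact QuotientGroup.eq.2 (by simpa [mul_assoc] using h1)

theorem op_H_mul (hv : Fixed S ρ v) (g : G) {h : G} (hh : h ∈ S.H) :
    op S ρ (h * g) v = ρ h (op S ρ g v) := by
  rw [op_eq_of_inj hv (ι := {c // c ∈ orb S g}) (fun c => h * c.1.out) ?_ ?_ ?_, op_apply, map_sum,
    ← Finset.sum_coe_sort (orb S g)]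
  · exact Finset.sum_congr rfl fun c _ => by rw [map_mul, Module.End.mul_apply]
  · rintro ⟨c, hc⟩
    obtain ⟨u, hu, e⟩ := mem_orb.1 hc
    refine mem_orb.2 ⟨h * u * h⁻¹, S.H_conj_U hh hu, QuotientGroup.eq.2 ?_⟩
    have h1 : (u * g)⁻¹ * c.out ∈ S.U := QuotientGroup.eq.1 (by rw [QuotientGroup.out_eq', e])
    simpa [mul_assoc] using h1
  · intro u hu
    refine ⟨⟨QuotientGroup.mk (h⁻¹ * u * h * g),
      mem_orb.2 ⟨_, by simpa using S.H_conj_U (inv_mem hh) hu, rfl⟩⟩, QuotientGroup.eq.2 ?_⟩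
    have h1 : (QuotientGroup.mk (h⁻¹ * u * h * g) : G ⧸ S.U).out⁻¹ * (h⁻¹ * u * h * g) ∈ S.U :=
      QuotientGroup.eq.1 (QuotientGroup.out_eq' _)
    simpa [mul_assoc] using h1
  · intro c c' hcc
    have h1 := QuotientGroup.eq.1 hcc
    refine Subtype.ext ?_
    rw [← QuotientGroup.out_eq' c.1, ← QuotientGroup.out_eq' c'.1]
    exact QuotientGroup.eq.2 (by simpa [mul_assoc] using h1)

/-- Eigenvalues of the torus on the image of an operator. -/
theorem op_eigen (hv : Fixed S ρ v) {g h h' : G} (hh : h ∈ S.H) (hh' : h' ∈ S.H)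
    (e : h * g = g * h') {t : k} (ht : ρ h' v = t • v) :
    ρ h (op S ρ g v) = t • op S ρ g v := by
  rw [← op_H_mul hv g hh, e, op_mul_H hv g hh', ht, map_smul]

theorem op_one (hv : Fixed S ρ v) : op S ρ 1 v = v := by
  rw [op_eq_of_inj hv (ι := Unit) (fun _ => 1) ?_ ?_ (fun _ _ _ => rfl)]
  · simp
  · exact fun _ => mem_orb.2 ⟨1, one_mem _, by rw [mul_one]⟩
  · exact fun u hu => ⟨(), QuotientGroup.eq.2 (by simpa using hu)⟩

/-! ### cosets in the cell of a Weyl group element -/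

theorem rep_keep {w : M.Group} {b : G} (hb : b ∈ XS S.x (↑(Sys.keep hC w⁻¹) : Set ℕ)) :
    (S.rep w)⁻¹ * b * S.rep w ∈ S.U := by
  obtain ⟨k, hk, e⟩ := S.rep_inv w
  have h1 := S.H_conj_U hk (S.keep_conj w⁻¹ hb)
  have h2 : (S.rep w⁻¹)⁻¹ * k⁻¹ = S.rep w := by rw [← mul_inv_rev, ← e, inv_inv]
  rw [show k * (S.rep w⁻¹ * b * (S.rep w⁻¹)⁻¹) * k⁻¹
    = (k * S.rep w⁻¹) * b * ((S.rep w⁻¹)⁻¹ * k⁻¹) by group, ← e, h2] at h1
  exact h1

theorem rep_coset {w : M.Group} {u : G} (hu : u ∈ S.U) :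
    ∃ a : S.Uw w⁻¹, (QuotientGroup.mk ((a : G) * S.rep w) : G ⧸ S.U)
      = QuotientGroup.mk (u * S.rep w) := by
  obtain ⟨a, ha, b, hb, rfl⟩ := S.toUnip.exists_split (S.P_eq ▸ S.toUnip.closed_P)
    (↑(Sys.flip hC w⁻¹) : Set ℕ) (↑(Sys.keep hC w⁻¹) : Set ℕ) (fun r hr => by
      obtain ⟨h1, h2⟩ := mem_posSet.1 hr
      rcases Nat.lt_or_ge (hC.hom w⁻¹ ⟨r, h1⟩).val (D.nroots / 2) with h | h
      · exact Or.inl (Sys.mem_flip.2 ⟨h1, h2, h⟩)
      · exact Or.inr (Sys.mem_keep.2 ⟨h1, h2, h⟩)) hu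
  refine ⟨⟨a, ha⟩, QuotientGroup.eq.2 ?_⟩
  simpa [mul_assoc] using rep_keep hb

theorem rep_coset_inj (w : M.Group) :
    Function.Injective fun a : S.Uw w⁻¹ => (QuotientGroup.mk ((a : G) * S.rep w) : G ⧸ S.U) := by
  intro a b hab
  have h1 : (S.rep w)⁻¹ * ((a : G)⁻¹ * b) * S.rep w ∈ S.U := by
    simpa [mul_assoc] using QuotientGroup.eq.1 hab
  have hc : (a : G)⁻¹ * b ∈ S.Uw w⁻¹ := mul_mem (inv_mem a.2) b.2
  obtain ⟨k, hk, e⟩ := S.rep_inv w
  have e2 : S.rep w⁻¹ = k⁻¹ * (S.rep w)⁻¹ := by rw [e, inv_mul_cancel_left]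
  have h3 : S.rep w⁻¹ * ((a : G)⁻¹ * b) * (S.rep w⁻¹)⁻¹ ∈ S.U := by
    rw [e2]
    simpa [mul_assoc] using S.H_conj_U (inv_mem hk) h1
  have h4 := S.UHV _ h3 1 (one_mem _) _ (S.flip_conj w⁻¹ hc) (mul_one _)
  exact Subtype.ext (inv_mul_eq_one.1 (conj_eq_one_iff.1 h4))

theorem op_rep (hv : Fixed S ρ v) (w : M.Group) :
    op S ρ (S.rep w) v = ∑ a : S.Uw w⁻¹, ρ ((a : G) * S.rep w) v :=
  op_eq_of_inj hv _ (fun a => mem_orb.2 ⟨a, S.Uw_le _ a.2, rfl⟩) (fun _ hu => rep_coset hu)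
    (rep_coset_inj w)

variable [Fintype F]

theorem card_orb {h : G} (hh : h ∈ S.H) (w : M.Group) :
    (orb S (h * S.rep w)).card = Fintype.card F ^ hC.inv w⁻¹ := by
  classical
  rw [← Nat.card_eq_fintype_card (α := F), ← S.card_Uw, Nat.card_eq_fintype_card]
  have e : orb S (h * S.rep w)
      = univ.image fun a : S.Uw w⁻¹ => h • (QuotientGroup.mk ((a : G) * S.rep w) : G ⧸ S.U) := by
    ext c
    rw [mem_image, mem_orb]
    constructor
    · rintro ⟨u, hu, rfl⟩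
      obtain ⟨a, ha⟩ := rep_coset (S := S) (w := w) (u := h⁻¹ * u * h)
        (by simpa using S.H_conj_U (inv_mem hh) hu)
      refine ⟨a, mem_univ _, ?_⟩
      rw [ha]
      show (QuotientGroup.mk (h * (h⁻¹ * u * h * S.rep w)) : G ⧸ S.U) = _
      congr 1
      group
    · rintro ⟨a, -, rfl⟩
      refine ⟨h * a * h⁻¹, S.H_conj_U hh (S.Uw_le _ a.2), ?_⟩
      show _ = (QuotientGroup.mk (h * ((a : G) * S.rep w)) : G ⧸ S.U)
      congr 1
      group
  rw [e, card_image_of_injective _ fun a b hab => rep_coset_inj w (smul_left_cancel h hab),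
    card_univ]

theorem inv_simple (i : Fin n) : hC.inv (M.simple i) = 1 := by
  have h := inv_up hC (v := (1 : M.Group)) (i := i)
    ((up_iff 1 i).2 (by rw [act_one]; exact simple_pos hC i))
  rwa [one_mul, hC.inv_one] at h

theorem op_ns (hv : Fixed S ρ v) (i : Fin n) :
    op S ρ (S.ns i) v = ∑ t : F, ρ (S.x (D.simple i) t * S.ns i) v := by
  refine op_eq_of_card hv _ (fun t => mem_orb.2 ⟨_, S.x_mem_U (simple_lt hC i) (simple_pos hC i) t,
    rfl⟩) (fun u hu => ?_) ?_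
  · obtain ⟨t, a, ha, rfl⟩ := split_left i hu
    exact ⟨t, QuotientGroup.eq.2 (by simpa [mul_assoc] using conj_noSimple' i ha)⟩
  · obtain ⟨h, hh, e⟩ := S.rep_simple i
    rw [show S.ns i = h⁻¹ * S.rep (M.simple i) by rw [e, inv_mul_cancel_left],
      card_orb (inv_mem hh), simple_inv, inv_simple, pow_one]

/-- Composition going up. -/
theorem op_left_up (hv : Fixed S ρ v) {i : Fin n} {w : M.Group} (h : Up hC w⁻¹ i) :
    op S ρ (S.ns i) (op S ρ (S.rep w) v) = op S ρ (S.ns i * S.rep w) v := by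
  rw [op_ns (op_fixed hv _) i, op_rep hv]
  simp only [map_sum, ← Module.End.mul_apply, ← map_mul]
  rw [← Fintype.sum_prod_type' (f := fun t (a : S.Uw w⁻¹) =>
    ρ (S.x (D.simple i) t * S.ns i * ((a : G) * S.rep w)) v)]
  symm
  refine op_eq_of_card hv
    (fun p : F × S.Uw w⁻¹ => S.x (D.simple i) p.1 * S.ns i * ((p.2 : G) * S.rep w)) ?_ ?_ ?_
  · rintro ⟨t, a⟩
    obtain ⟨b, hb, s, e⟩ := split_right i (S.Uw_le _ a.2)
    obtain ⟨k, hk, ek⟩ := S.rep_inv w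
    obtain ⟨s', es⟩ := S.rep_conj w⁻¹ (D.simple i) (simple_lt hC i) s
    have hs : (S.rep w)⁻¹ * S.x (D.simple i) s * S.rep w ∈ S.U := by
      have h2 : (S.rep w⁻¹)⁻¹ * k⁻¹ = S.rep w := by rw [← mul_inv_rev, ← ek, inv_inv]
      have h1 := S.H_conj_U hk (S.x_mem_U (Fin.isLt _) h s')
      rw [← es, show k * (S.rep w⁻¹ * S.x (D.simple i) s * (S.rep w⁻¹)⁻¹) * k⁻¹
        = (k * S.rep w⁻¹) * S.x (D.simple i) s * ((S.rep w⁻¹)⁻¹ * k⁻¹) by group, ← ek, h2] at h1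
      exact h1
    refine mem_orb.2 ⟨S.x (D.simple i) t * (S.ns i * b * (S.ns i)⁻¹),
      mul_mem (S.x_mem_U (simple_lt hC i) (simple_pos hC i) t) (conj_noSimple i hb), ?_⟩
    refine QuotientGroup.eq.2 ?_
    show _ * (S.x (D.simple i) t * S.ns i * ((a : G) * S.rep w)) ∈ S.U
    rw [e]
    simpa [mul_assoc] using hs
  · intro u hu
    obtain ⟨t, b, hb, rfl⟩ := split_left i hu
    obtain ⟨a, ha⟩ := rep_coset (S := S) (w := w) (conj_noSimple' i hb)
    refine ⟨(t, a), QuotientGroup.eq.2 ?_⟩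
    simpa [mul_assoc] using QuotientGroup.eq.1 ha
  · obtain ⟨k, hk, e⟩ := S.ns_rep (i := i) w
    rw [e, card_orb hk, mul_inv_rev, simple_inv, inv_up hC h, Fintype.card_prod, pow_succ', ← Nat.card_eq_fintype_card (α := S.Uw w⁻¹), S.card_Uw, Nat.card_eq_fintype_card]

theorem card_smul_eq_zero {p : ℕ} [CharP F p] [CharP k p] (v : V) : Fintype.card F • v = 0 := by
  rw [← Nat.cast_smul_eq_nsmul k, (CharP.cast_eq_zero_iff k p _).2
    ((CharP.cast_eq_zero_iff F p _).1 (Nat.cast_card_eq_zero F)), zero_smul]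

open Classical in
theorem sum_units {A : Type*} [AddCommMonoid A] (f : F → A) :
    ∑ t, f t = f 0 + ∑ t : Fˣ, f t := by
  rw [← Finset.sum_erase_add _ _ (mem_univ (0 : F)), add_comm]
  congr 1
  symm
  refine Finset.sum_bij (fun t _ => (t : F)) (fun t _ => by simp) (fun a _ b _ h => Units.ext h)
    (fun b hb => ⟨Units.mk0 b (ne_of_mem_erase hb), mem_univ _, rfl⟩) (fun _ _ => rfl)

theorem Rich.op_ns_eigen (R : Rich S) (hv : Fixed S ρ v) (i : Fin n) {a : Fˣ} {t : k}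
    (ht : ρ (R.tor (Pi.mulSingle i a⁻¹)) v = t • v) :
    ρ (R.tor (Pi.mulSingle i a)) (op S ρ (S.ns i) v) = t • op S ρ (S.ns i) v :=
  op_eigen hv (R.tor_mem _) (R.tor_mem _) (R.single_ns i a) ht

/-- The quadratic relation. -/
theorem Rich.op_ns_sq (R : Rich S) {p : ℕ} [CharP F p] [CharP k p] (hv : Fixed S ρ v) (i : Fin n)
    {φ : Fˣ → k} (hφ : ∀ a, ρ (R.tor (Pi.mulSingle i a)) v = φ a • v) :
    op S ρ (S.ns i) (op S ρ (S.ns i) v) = (∑ a, φ a) • op S ρ (S.ns i) v := by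
  have hαlt := simple_lt hC i
  obtain ⟨e, -, he⟩ := exists_param (S := S) (g := S.ns i) hαlt (simple_pos hC i)
    (sigma_lt hC i hαlt) (S.n_conj i i.isLt _ hαlt)
  conv_lhs => rw [op_ns (op_fixed hv _) i, op_ns hv i]
  simp only [map_sum, ← Module.End.mul_apply, ← map_mul]
  rw [Finset.sum_comm]
  have hterm : ∀ s t, S.x (D.simple i) t * S.ns i * (S.x (D.simple i) s * S.ns i)
      = S.x (D.simple i) t * (S.x (C.sigma i (D.simple i)) (e s) * R.tor (Pi.mulSingle i (-1))) := fun s t => by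
    rw [← he, ← R.ns_sq]; group
  simp only [hterm]
  rw [Equiv.sum_comp e (fun s => ∑ t, ρ (S.x (D.simple i) t * (S.x (C.sigma i (D.simple i)) s
    * R.tor (Pi.mulSingle i (-1)))) v), sum_units]
  have h0 : ∑ t, ρ (S.x (D.simple i) t * (S.x (C.sigma i (D.simple i)) 0 * R.tor (Pi.mulSingle i (-1)))) v = 0 := by
    simp only [S.x_zero' (sigma_lt hC i hαlt), one_mul, map_mul, Module.End.mul_apply, hφ,
      map_smul, hv _ (S.x_mem_U hαlt (simple_pos hC i) _), Finset.sum_const, card_univ]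
    exact card_smul_eq_zero (k := k) (p := p) (F := F) _
  rw [h0, zero_add, Finset.sum_smul]
  refine Finset.sum_congr rfl fun u _ => ?_
  rw [op_ns hv i, Finset.smul_sum]
  refine Fintype.sum_equiv (Equiv.addRight (((u⁻¹ : Fˣ) : F))) _ _ fun t => ?_
  have hmid : R.tor (Pi.mulSingle i (-u⁻¹)) * S.ns i = S.ns i * R.tor (Pi.mulSingle i (-u)) := by
    rw [R.single_ns]; simp [inv_neg]
  rw [R.sl2c i u, Equiv.coe_addRight, S.x_add' _ hαlt,
    show S.x (D.simple i) t * (S.x (D.simple i) ((u⁻¹ : Fˣ) : F) * R.tor (Pi.mulSingle i (-u⁻¹)) * S.ns i *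
      S.x (D.simple i) ((u⁻¹ : Fˣ) : F) * R.tor (Pi.mulSingle i (-1)))
      = S.x (D.simple i) t * S.x (D.simple i) ((u⁻¹ : Fˣ) : F) * (R.tor (Pi.mulSingle i (-u⁻¹)) * S.ns i) *
        (S.x (D.simple i) ((u⁻¹ : Fˣ) : F) * R.tor (Pi.mulSingle i (-1))) by group, hmid]
  have hw : ρ (S.x (D.simple i) ((u⁻¹ : Fˣ) : F) * R.tor (Pi.mulSingle i (-1))) v
      = ρ (R.tor (Pi.mulSingle i (-1))) v := by
    rw [map_mul, Module.End.mul_apply]
    exact hv.torus (R.tor_mem _) _ (S.x_mem_U hαlt (simple_pos hC i) _)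
  rw [map_mul, Module.End.mul_apply, hw, ← Module.End.mul_apply, ← map_mul,
    show S.x (D.simple i) t * S.x (D.simple i) ((u⁻¹ : Fˣ) : F) * (S.ns i * R.tor (Pi.mulSingle i (-u))) *
      R.tor (Pi.mulSingle i (-1)) = S.x (D.simple i) t * S.x (D.simple i) ((u⁻¹ : Fˣ) : F) * S.ns i *
        (R.tor (Pi.mulSingle i (-u)) * R.tor (Pi.mulSingle i (-1))) by group,
    ← map_mul, ← Pi.mulSingle_mul, show -u * -1 = u by simp, map_mul, Module.End.mul_apply, hφ,
    map_smul]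

end Cfsg.Agent.Chevalley.Weights
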