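import Cfsg.Agent.Chevalley.Weights.Module

/-!
Every weight occurs: a vector in a permutation module on the cosets of the parahoric kernel of the
weight.
-/
set_option autoImplicit false
set_option linter.style.haveILetI false
set_option linter.unusedSectionVars false
set_option linter.unusedSimpArgs false
set_option linter.unusedVariables false

namespace Cfsg.Agent.Chevalley.Weights

open Cfsg.Lie Cfsg.Agent.H37 Cfsg.Agent.H37.RootSys Cfsg.Agent.H37.Weyl Finset
open Cfsg.Agent.H83.SimpleTrace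
open Cfsg.Agent.Chevalley.Hecke (Up inv_up inv_down up_of_down)
open scoped Classical

variable {n : ℕ} {M : CoxeterMatrix (Fin n)} {C : Weyl.Cert} {D : ChevalleyDatum}
variable {hC : Weyl.Good C D M} {G F : Type*} [Group G] [Field F] {S : Sys hC G F}

/-- An element positive exactly on a given set of fundamental roots, which it maps to fundamental
roots. -/
theorem exists_adapted (R : Rich S) (J : Set (Fin n)) :
    ∃ y : M.Group, (∀ j ∈ J, Up hC y j) ∧ (∀ i, i ∉ J → ¬ Up hC y i) ∧
      ∀ j ∈ J, ∃ l : Fin n, act hC y (D.simple j) = D.simple l := by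
  haveI := hC.finite
  haveI : Nonempty {y : M.Group // ∀ j ∈ J, Up hC y j} :=
    ⟨⟨1, fun j _ => (up_iff 1 j).2 (by rw [act_one]; exact simple_pos hC j)⟩⟩
  obtain ⟨⟨y, hy⟩, hmax⟩ := Finite.exists_max
    fun y : {y : M.Group // ∀ j ∈ J, Up hC y j} => hC.inv y.1
  have ha : ∀ i, i ∉ J → ¬ Up hC y i := by
    intro i hi hup
    have hmem : ∀ j ∈ J, Up hC (y * M.simple i) j := by
      intro j hj
      have hji : j ≠ i := fun e => hi (e ▸ hj)
      have hs := simple_lt hC j
      rw [up_iff, act_mul _ _ hs, act_simple i hs]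
      have hpos : D.nroots / 2 ≤ C.sigma i (D.simple j) :=
        sigma_pos hC i hs (simple_pos hC j) (fun e => hji (simple_inj' R e))
      have h0 := R.cf_nonneg _ (sigma_lt hC i hs) hpos i
      rcases h0.lt_or_eq with hlt | heq
      · have hT := R.T_up i _ hs (by rw [R.cf_simple, if_neg (Ne.symm hji)]; exact hlt)
        have h2 := S.T_hom y _ _ _ hs (simple_lt hC i) (sigma_lt hC i hs) hT
        rw [← act_eq y hs, ← act_eq y (simple_lt hC i), ← act_eq y (sigma_lt hC i hs)] at h2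
        have h3 := (S.T_pos (S.P_eq ▸ mem_posSet.2 ⟨act_lt y hs, (up_iff y j).1 (hy j hj)⟩)
          (S.P_eq ▸ mem_posSet.2 ⟨act_lt y (simple_lt hC i), (up_iff y i).1 hup⟩) h2).1
        rw [S.P_eq, mem_posSet] at h3
        exact h3.2
      · have e : C.sigma i (D.simple j) = D.simple j := R.cf_ext _ _ (sigma_lt hC i hs) hs
          fun m => by
            by_cases hm : m = i
            · subst hm; rw [← heq, R.cf_simple, if_neg (Ne.symm hji)]
            · exact R.cf_sigma i m _ hs hm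
        rw [e]; exact (up_iff y j).1 (hy j hj)
    have h1 : hC.inv (y * M.simple i) ≤ hC.inv y := hmax ⟨_, hmem⟩
    rw [inv_up hC hup] at h1
    omega
  refine ⟨y, hy, ha, fun j hj => ?_⟩
  -- images of fundamental roots under `y⁻¹`
  have hb : ∀ l : Fin n, act hC y⁻¹ (D.simple l) < D.nroots / 2 ∨
      ∃ j' ∈ J, act hC y⁻¹ (D.simple l) = D.simple j' := by
    intro l
    refine or_iff_not_imp_left.2 fun hneg => ?_
    by_contra hno
    have hup : Up hC y⁻¹ l := (up_iff y⁻¹ l).2 (not_lt.1 hneg)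
    have hmem : ∀ j ∈ J, Up hC (M.simple l * y) j := by
      intro j hj
      have hs := simple_lt hC j
      rw [up_iff, act_mul _ _ hs, act_simple l (act_lt y hs)]
      refine sigma_pos hC l (act_lt y hs) ((up_iff y j).1 (hy j hj)) fun e => hno ⟨j, hj, ?_⟩
      rw [← e, act_inv_act y hs]
    have h1 : hC.inv (M.simple l * y) ≤ hC.inv y := hmax ⟨_, hmem⟩
    rw [inv_simple_mul hup] at h1
    omega
  have hP2 : ∀ γ, γ < D.nroots → D.nroots / 2 ≤ γ → ∀ m, m ∉ J →
      R.cf (act hC y⁻¹ γ) m ≤ 0 := by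
    have hsimp : ∀ l : Fin n, ∀ m, m ∉ J → R.cf (act hC y⁻¹ (D.simple l)) m ≤ 0 := by
      intro l m hm
      rcases hb l with h | ⟨j', hj', h⟩
      · have hlt := act_lt (hC := hC) y⁻¹ (simple_lt hC l)
        have h1 := R.cf_nonneg (D.nroots - 1 - act hC y⁻¹ (D.simple l)) (by omega)
          (by have := hC.even; omega) m
        rw [R.cf_neg _ hlt] at h1
        omega
      · rw [h, R.cf_simple, if_neg (fun e : m = j' => hm (e ▸ hj'))]
    intro γ
    induction γ using Nat.strong_induction_on with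
    | _ γ ih =>
      intro hγ hp m hm
      rcases R.climb γ hγ hp with ⟨l, rfl⟩ | ⟨i, hlt, hp', hcf⟩
      · exact hsimp l m hm
      · have hs := sigma_lt hC i hγ
        have hT := R.T_up i _ hs (by rw [sigma_sigma hC i hγ]; exact hcf)
        rw [sigma_sigma hC i hγ] at hT
        have h2 := S.T_hom y⁻¹ _ _ _ hs (simple_lt hC i) hγ hT
        rw [← act_eq _ hs, ← act_eq _ (simple_lt hC i), ← act_eq _ hγ] at h2
        obtain ⟨a, b, ha0, hb0, e⟩ :=
          R.T_cf _ _ _ (act_lt _ hs) (act_lt _ (simple_lt hC i)) (act_lt _ hγ) h2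
        rw [e m]
        have := ih _ hlt hs hp' m hm
        have := hsimp i m hm
        nlinarith
  have hsj := simple_lt hC j
  have hγ := act_lt (hC := hC) y hsj
  rcases R.climb _ hγ ((up_iff y j).1 (hy j hj)) with ⟨l, e⟩ | ⟨i, hlt, hp', hcf⟩
  · exact ⟨l, e⟩
  exfalso
  set γ := act hC y (D.simple j) with hγdef
  have hs := sigma_lt hC i hγ
  have hT := R.T_up i _ hs (by rw [sigma_sigma hC i hγ]; exact hcf)
  rw [sigma_sigma hC i hγ] at hT
  have h2 := S.T_hom y⁻¹ _ _ _ hs (simple_lt hC i) hγ hT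
  rw [← act_eq _ hs, ← act_eq _ (simple_lt hC i), ← act_eq _ hγ, hγdef, act_inv_act y hsj,
    ← hγdef] at h2
  obtain ⟨a, b, ha0, hb0, e⟩ :=
    R.T_cf _ _ _ (act_lt _ hs) (act_lt _ (simple_lt hC i)) hsj h2
  have hout : ∀ m, m ∉ J → R.cf (act hC y⁻¹ (C.sigma i γ)) m = 0 ∧
      R.cf (act hC y⁻¹ (D.simple i)) m = 0 := by
    intro m hm
    have h3 := e m
    rw [R.cf_simple, if_neg (fun h : m = j => hm (h ▸ hj))] at h3
    have := hP2 _ hs hp' m hm
    have := hP2 _ (simple_lt hC i) (simple_pos hC i) m hm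
    constructor <;> nlinarith
  have hposof : ∀ r, r < D.nroots → D.nroots / 2 ≤ r →
      (∀ m, m ∉ J → R.cf (act hC y⁻¹ r) m = 0) → D.nroots / 2 ≤ act hC y⁻¹ r := by
    intro r hr hp hsupp
    by_contra hneg
    have hlt' := act_lt (hC := hC) y⁻¹ hr
    have h3 := pos_of_supported R y J (fun j hj => (up_iff y j).1 (hy j hj))
      (D.nroots - 1 - act hC y⁻¹ r) (by omega) (by have := hC.even; omega)
      (fun m hm => by rw [R.cf_neg _ hlt', hsupp m hm, neg_zero])
    rw [act_neg y hlt', act_act_inv y hr] at h3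
    have := hC.even
    omega
  have hd1 := hposof _ hs hp' fun m hm => (hout m hm).1
  have hd2 := hposof _ (simple_lt hC i) (simple_pos hC i) fun m hm => (hout m hm).2
  obtain ⟨m1, hm1⟩ := R.cf_pos _ (act_lt _ hs) hd1
  obtain ⟨m2, hm2⟩ := R.cf_pos _ (act_lt _ (simple_lt hC i)) hd2
  have hsum : (∑ m, R.cf (D.simple j) m) = a * (∑ m, R.cf (act hC y⁻¹ (C.sigma i γ)) m)
      + b * ∑ m, R.cf (act hC y⁻¹ (D.simple i)) m := by
    rw [Finset.mul_sum, Finset.mul_sum, ← Finset.sum_add_distrib]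
    exact Finset.sum_congr rfl fun m _ => e m
  have h1 : ∑ m, R.cf (D.simple j) m = 1 := by simp [R.cf_simple]
  have hS1 := hm1.trans_le (Finset.single_le_sum
    (fun m _ => R.cf_nonneg _ (act_lt _ hs) hd1 m) (mem_univ m1))
  have hS2 := hm2.trans_le (Finset.single_le_sum
    (fun m _ => R.cf_nonneg _ (act_lt _ (simple_lt hC i)) hd2 m) (mem_univ m2))
  rw [h1] at hsum
  nlinarith

/-- The product of representatives along a word. -/
def nprod (S : Sys hC G F) (a : List (Fin n)) : G := (a.map fun i => S.ns i).prod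

/-- The product of fundamental reflections along a word. -/
def sprod (M : CoxeterMatrix (Fin n)) (a : List (Fin n)) : M.Group := (a.map M.simple).prod

@[simp] theorem nprod_nil : nprod S [] = 1 := rfl
@[simp] theorem sprod_nil : sprod M [] = 1 := rfl
theorem nprod_cons (m : Fin n) (a : List (Fin n)) : nprod S (m :: a) = S.ns m * nprod S a := by
  simp [nprod]
theorem sprod_cons (m : Fin n) (a : List (Fin n)) :
    sprod M (m :: a) = M.simple m * sprod M a := by simp [sprod]
theorem nprod_snoc (a : List (Fin n)) (m : Fin n) : nprod S (a ++ [m]) = nprod S a * S.ns m := by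
  simp [nprod]
theorem sprod_snoc (a : List (Fin n)) (m : Fin n) :
    sprod M (a ++ [m]) = sprod M a * M.simple m := by simp [sprod]

theorem nprod_rep : ∀ a : List (Fin n), ∃ k ∈ S.H, nprod S a = k * S.rep (sprod M a)
  | [] => ⟨1, one_mem _, by simp [S.rep_one]⟩
  | m :: a => by
    obtain ⟨k, hk, e⟩ := nprod_rep a
    obtain ⟨h, hh, e'⟩ := S.ns_rep (i := m) (sprod M a)
    refine ⟨S.ns m * k * (S.ns m)⁻¹ * h, mul_mem (S.n_conj_H m m.isLt k hk) hh, ?_⟩
    rw [nprod_cons, sprod_cons, e, mul_assoc _ h, ← e']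
    group

theorem cell_unique {g : G} {a b : M.Group} (ha : g ∈ S.cell a) (hb : g ∈ S.cell b) : a = b := by
  obtain ⟨u, hu, h, hh, u', hu', h', hh', rfl⟩ := ha
  refine S.cell_index ?_
  have : S.rep a = h⁻¹ * (u⁻¹ * ((u * h * S.rep a * (u' * h')) * h'⁻¹ * u'⁻¹)) := by group
  rw [this]
  exact S.cell_left_H (inv_mem hh) (S.cell_left_U (inv_mem hu)
    (S.cell_right_U (inv_mem hu') (S.cell_right_H (inv_mem hh') hb)))

variable {k : Type*} [Field k]

/-- A character of the torus trivial on the coroots of a set of fundamental roots. -/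
structure TorChar (R : Rich S) (J : Set (Fin n)) (χ : G → k) : Prop where
  one : χ 1 = 1
  mul : ∀ a b, a ∈ S.H → b ∈ S.H → χ (a * b) = χ a * χ b
  co : ∀ l ∈ J, ∀ a, χ (R.tor (Pi.mulSingle l a)) = 1

variable {R : Rich S} {J : Set (Fin n)} {χ : G → k} (hχ : TorChar R J χ)

theorem support_word {a : List (Fin n)} (ha : ∀ i ∈ a, i ∈ J) {l : Fin n} (hl : l ∈ J) :
    ∀ m, m ∉ J → R.cf (act hC (sprod M a) (D.simple l)) m = 0 := by
  induction a with
  | nil =>
    intro m hm
    rw [sprod_nil, act_one, R.cf_simple, if_neg (fun e : m = l => hm (e ▸ hl))]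
  | cons b a ih =>
    intro m hm
    rw [sprod_cons, act_mul _ _ (simple_lt hC l), act_simple b (act_lt _ (simple_lt hC l)),
      R.cf_sigma b m _ (act_lt _ (simple_lt hC l)) (fun e => hm (e ▸ ha b List.mem_cons_self))]
    exact ih (fun i hi => ha i (List.mem_cons_of_mem _ hi)) m hm

include hχ

theorem TorChar.conj_ns {l : Fin n} (hl : l ∈ J) {h : G} (hh : h ∈ S.H) :
    χ (S.ns l * h * (S.ns l)⁻¹) = χ h := by
  obtain ⟨e, he⟩ := R.conj_H l hh
  rw [he, hχ.mul _ _ hh (R.tor_mem _), hχ.co l hl, mul_one]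

theorem TorChar.conj_word : ∀ a : List (Fin n), (∀ i ∈ a, i ∈ J) → ∀ h ∈ S.H,
    nprod S a * h * (nprod S a)⁻¹ ∈ S.H ∧ χ (nprod S a * h * (nprod S a)⁻¹) = χ h
  | [], _, h, hh => by simpa using hh
  | m :: a, ha, h, hh => by
    obtain ⟨h1, h2⟩ := TorChar.conj_word a (fun i hi => ha i (List.mem_cons_of_mem _ hi)) h hh
    rw [nprod_cons, show S.ns m * nprod S a * h * (S.ns m * nprod S a)⁻¹
      = S.ns m * (nprod S a * h * (nprod S a)⁻¹) * (S.ns m)⁻¹ by group]
    exact ⟨S.n_conj_H m m.isLt _ h1, (hχ.conj_ns (ha m List.mem_cons_self) h1).trans h2⟩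

/-- Deletion of a letter. -/
theorem TorChar.exchange : ∀ a : List (Fin n), (∀ i ∈ a, i ∈ J) → ∀ l ∈ J,
    ¬ Up hC (sprod M a) l → ∃ h, h ∈ S.H ∧ χ h = 1 ∧ ∃ a' : List (Fin n), (∀ i ∈ a', i ∈ J) ∧
      a'.length < a.length ∧ nprod S a * S.ns l = h * nprod S a' ∧
      sprod M a' = sprod M a * M.simple l
  | [], _, l, _, h => absurd ((up_iff (1 : M.Group) l).2 (by rw [act_one]; exact simple_pos hC l)) h
  | m :: b, ha, l, hl, hdown => by
    have hm := ha m List.mem_cons_self
    have hb : ∀ i ∈ b, i ∈ J := fun i hi => ha i (List.mem_cons_of_mem _ hi)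
    by_cases hup : Up hC (sprod M b) l
    · have hlt := act_lt (hC := hC) (sprod M b) (simple_lt hC l)
      have hact : act hC (sprod M b) (D.simple l) = D.simple m := by
        by_contra hne
        refine hdown ((up_iff _ l).2 ?_)
        rw [sprod_cons, act_mul _ _ (simple_lt hC l), act_simple m hlt]
        exact sigma_pos hC m hlt ((up_iff _ l).1 hup) hne
      obtain ⟨hw, c, hc⟩ := conj_simple R hact
      obtain ⟨k, hk, ek⟩ := nprod_rep (S := S) b
      obtain ⟨e, he⟩ := R.conj_H m (inv_mem hk)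
      refine ⟨R.tor (Pi.mulSingle m ((c * e)⁻¹ * (-1))), R.tor_mem _, hχ.co m hm _, b, hb,
        by simp, ?_, ?_⟩
      · have e1 : nprod S b * S.ns l = R.tor (Pi.mulSingle m (c * e)) * S.ns m * nprod S b := by
          calc nprod S b * S.ns l
              = k * (S.rep (sprod M b) * S.ns l * (S.rep (sprod M b))⁻¹) * S.rep (sprod M b) := by
                rw [ek]; group
            _ = k * R.tor (Pi.mulSingle m c) * S.ns m * S.rep (sprod M b) := by rw [hc]; group
            _ = R.tor (Pi.mulSingle m c) * k * S.ns m * S.rep (sprod M b) := by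
                rw [R.H_comm hk (R.tor_mem _)]
            _ = R.tor (Pi.mulSingle m c) * (k * (S.ns m * k⁻¹ * (S.ns m)⁻¹)) * S.ns m *
                  (k * S.rep (sprod M b)) := by group
            _ = _ := by rw [he, mul_inv_cancel_left, ← map_mul, ← Pi.mulSingle_mul, ← ek]
        rw [nprod_cons, mul_assoc, e1, ← mul_assoc, ← mul_assoc,
          show S.ns m * R.tor (Pi.mulSingle m (c * e))
            = R.tor (Pi.mulSingle m (c * e)⁻¹) * S.ns m by rw [R.single_ns, inv_inv],
          mul_assoc (R.tor _) (S.ns m), R.ns_sq, ← map_mul, ← Pi.mulSingle_mul]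
      · have h2 : sprod M b * M.simple l = M.simple m * sprod M b := by
          rw [← hw]; group
        rw [sprod_cons, mul_assoc, h2, ← mul_assoc, simple_mul_self, one_mul]
    · obtain ⟨h, hh, hh1, b', hb', hlen, e, es⟩ := TorChar.exchange b hb l hl hup
      refine ⟨S.ns m * h * (S.ns m)⁻¹, S.n_conj_H m m.isLt h hh,
        (hχ.conj_ns hm hh).trans hh1, m :: b', ?_, by simp [hlen], ?_, ?_⟩
      · intro i hi
        rcases List.mem_cons.1 hi with rfl | hi
        · exact hm
        · exact hb' i hi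
      · rw [nprod_cons, nprod_cons, mul_assoc, e]; group
      · rw [sprod_cons, sprod_cons, es, mul_assoc]

theorem TorChar.word_one : ∀ a : List (Fin n), (∀ i ∈ a, i ∈ J) → sprod M a = 1 →
    nprod S a ∈ S.H ∧ χ (nprod S a) = 1 := by
  intro a
  induction hN : a.length using Nat.strong_induction_on generalizing a with
  | _ N ih =>
    subst hN
    intro ha h1
    rcases List.eq_nil_or_concat a with rfl | ⟨a0, l, rfl⟩
    · exact ⟨by simp, by simpa using hχ.one⟩
    rw [List.concat_eq_append] at ha h1 ih ⊢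
    have hl : l ∈ J := ha l (by simp)
    have ha0 : ∀ i ∈ a0, i ∈ J := fun i hi => ha i (List.mem_append_left _ hi)
    rw [sprod_snoc] at h1
    have hdown : ¬ Up hC (sprod M a0) l := by
      rw [eq_inv_of_mul_eq_one_left h1, simple_inv, up_iff, act_simple l (simple_lt hC l)]
      exact not_le.2 (sigma_simple_neg hC l)
    obtain ⟨h, hh, hh1, a', ha', hlen, e, es⟩ := hχ.exchange a0 ha0 l hl hdown
    obtain ⟨h2, h3⟩ := ih a'.length (by simp; omega) a' rfl ha' (es.trans h1)
    rw [nprod_snoc, e]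
    exact ⟨mul_mem hh h2, by rw [hχ.mul _ _ hh h2, hh1, h3, one_mul]⟩

omit hχ in
/-- The group generated by `U`, the kernel of `χ` and the representatives. -/
def parK (S : Sys hC G F) (J : Set (Fin n)) (χ : G → k) : Subgroup G :=
  Subgroup.closure ((S.U : Set G) ∪ {h | h ∈ S.H ∧ χ h = 1} ∪ (fun l : Fin n => S.ns l) '' J)

omit hχ in
theorem word_conj_pos {a : List (Fin n)} {l : Fin n} (hup : Up hC (sprod M a) l) (t : F) :
    nprod S a * S.x (D.simple l) t * (nprod S a)⁻¹ ∈ S.U := by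
  obtain ⟨k, hk, e⟩ := nprod_rep (S := S) a
  obtain ⟨t', e'⟩ := S.rep_conj (sprod M a) (D.simple l) (simple_lt hC l) t
  rw [e, show k * S.rep (sprod M a) * S.x (D.simple l) t * (k * S.rep (sprod M a))⁻¹
    = k * (S.rep (sprod M a) * S.x (D.simple l) t * (S.rep (sprod M a))⁻¹) * k⁻¹ by group, e']
  exact S.H_conj_U hk (S.x_mem_U (Fin.isLt _) hup t')

/-- Normal form in `parK`. -/
theorem TorChar.parK_form {g : G} (hg : g ∈ parK S J χ) :
    ∃ u ∈ S.U, ∃ h, h ∈ S.H ∧ χ h = 1 ∧ ∃ a : List (Fin n), (∀ i ∈ a, i ∈ J) ∧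
      ∃ u' ∈ S.U, g = u * h * nprod S a * u' := by
  have hstepH : ∀ g k, (∃ u ∈ S.U, ∃ h, h ∈ S.H ∧ χ h = 1 ∧ ∃ a : List (Fin n), (∀ i ∈ a, i ∈ J) ∧
      ∃ u' ∈ S.U, g = u * h * nprod S a * u') → k ∈ S.H → χ k = 1 →
      ∃ u ∈ S.U, ∃ h, h ∈ S.H ∧ χ h = 1 ∧ ∃ a : List (Fin n), (∀ i ∈ a, i ∈ J) ∧
        ∃ u' ∈ S.U, g * k = u * h * nprod S a * u' := by
    rintro _ k ⟨u, hu, h, hh, hh1, a, ha, u', hu', rfl⟩ hk hk1
    obtain ⟨h1, h2⟩ := hχ.conj_word a ha k hk
    refine ⟨u, hu, h * (nprod S a * k * (nprod S a)⁻¹), mul_mem hh h1, ?_, a, ha, k⁻¹ * u' * k,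
      by simpa using S.H_conj_U (inv_mem hk) hu', by group⟩
    rw [hχ.mul _ _ hh h1, hh1, h2, hk1, one_mul]
  have hstepn : ∀ g, ∀ l ∈ J, (∃ u ∈ S.U, ∃ h, h ∈ S.H ∧ χ h = 1 ∧ ∃ a : List (Fin n),
      (∀ i ∈ a, i ∈ J) ∧ ∃ u' ∈ S.U, g = u * h * nprod S a * u') →
      ∃ u ∈ S.U, ∃ h, h ∈ S.H ∧ χ h = 1 ∧ ∃ a : List (Fin n), (∀ i ∈ a, i ∈ J) ∧
        ∃ u' ∈ S.U, g * S.ns l = u * h * nprod S a * u' := by
    rintro _ l hl ⟨u, hu, h, hh, hh1, a, ha, u', hu', rfl⟩
    obtain ⟨t, b, hb, rfl⟩ := split_left l hu'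
    have hb' := conj_noSimple' l hb
    have hsn : ∀ a : List (Fin n), (∀ i ∈ a, i ∈ J) → ∀ i ∈ a ++ [l], i ∈ J := fun a ha i hi => by
      rcases List.mem_append.1 hi with hi | hi
      · exact ha i hi
      · rw [List.mem_singleton] at hi; exact hi ▸ hl
    by_cases hup : Up hC (sprod M a) l
    · refine ⟨u * (h * (nprod S a * S.x (D.simple l) t * (nprod S a)⁻¹) * h⁻¹),
        mul_mem hu (S.H_conj_U hh (word_conj_pos hup t)), h, hh, hh1, a ++ [l], hsn a ha,
        (S.ns l)⁻¹ * b * S.ns l, hb', ?_⟩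
      rw [nprod_snoc]; group
    by_cases ht : t = 0
    · refine ⟨u, hu, h, hh, hh1, a ++ [l], hsn a ha, (S.ns l)⁻¹ * b * S.ns l, hb', ?_⟩
      rw [nprod_snoc, ht, S.x_zero' (simple_lt hC l)]; group
    obtain ⟨h', hh', hh'1, a', ha', -, e, es⟩ := hχ.exchange a ha l hl hup
    have hup' : Up hC (sprod M a') l := es ▸ up_of_down hC hup
    set cm := R.tor (Pi.mulSingle l (-1)) with hcm
    obtain ⟨t1, e1⟩ := S.h_conj cm (R.tor_mem _) (D.simple l) (simple_lt hC l) t
    obtain ⟨t2, e2⟩ := S.n_conj l l.isLt (D.simple l) (simple_lt hC l) t1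
    have e3 : (S.ns l)⁻¹ * S.x (D.simple l) t * S.ns l = S.x (C.sigma l (D.simple l)) t2 := by
      have en : cm⁻¹ * (S.ns l)⁻¹ = S.ns l := by rw [← mul_inv_rev, hcm, ← R.ns_inv, inv_inv]
      rw [← e2, ← e1]
      calc (S.ns l)⁻¹ * S.x (D.simple l) t * S.ns l
          = (S.ns l * cm) * S.x (D.simple l) t * (cm⁻¹ * (S.ns l)⁻¹) := by
            rw [en, hcm, ← R.ns_inv]
        _ = _ := by group
    have ht2 : t2 ≠ 0 := by
      intro h0
      rw [h0, S.x_zero' (sigma_lt hC l (simple_lt hC l))] at e3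
      refine ht (x_inj (S := S) (simple_lt hC l) (simple_pos hC l) ?_)
      rw [S.x_zero' (simple_lt hC l)]
      calc S.x (D.simple l) t = S.ns l * ((S.ns l)⁻¹ * S.x (D.simple l) t * S.ns l) * (S.ns l)⁻¹ := by
            group
        _ = 1 := by rw [e3]; group
    have e4 := R.sl2c l (Units.mk0 t2 ht2)
    rw [Units.val_mk0] at e4
    set s : Fˣ := (Units.mk0 t2 ht2)⁻¹
    obtain ⟨h5, h6⟩ := hχ.conj_word a' ha' _ (R.tor_mem (Pi.mulSingle l (-s)))
    rw [hχ.co l hl] at h6
    have ea : nprod S a = h' * nprod S a' * (S.ns l)⁻¹ := by rw [← e]; group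
    refine ⟨u * ((h * h') * (nprod S a' * S.x (D.simple l) s * (nprod S a')⁻¹) * (h * h')⁻¹),
      mul_mem hu (S.H_conj_U (mul_mem hh hh') (word_conj_pos hup' _)),
      h * h' * (nprod S a' * R.tor (Pi.mulSingle l (-s)) * (nprod S a')⁻¹),
      mul_mem (mul_mem hh hh') h5, ?_, a' ++ [l], hsn a' ha',
      S.x (D.simple l) s * ((S.ns l)⁻¹ * b * S.ns l),
      mul_mem (S.x_mem_U (simple_lt hC l) (simple_pos hC l) _) hb', ?_⟩
    · rw [hχ.mul _ _ (mul_mem hh hh') h5, hχ.mul _ _ hh hh', hh1, hh'1, h6, one_mul, one_mul]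
    · calc u * h * nprod S a * (S.x (D.simple l) t * b) * S.ns l
          = u * h * h' * nprod S a' * ((S.ns l)⁻¹ * S.x (D.simple l) t * S.ns l) *
              ((S.ns l)⁻¹ * b * S.ns l) := by rw [ea]; group
        _ = _ := by rw [e3, e4, nprod_snoc]; group
  induction hg using Subgroup.closure_induction_right with
  | one => exact ⟨1, one_mem _, 1, one_mem _, hχ.one, [], by simp, 1, one_mem _, by simp⟩
  | mul_right x _ y hy ih =>
    rcases hy with (hy | ⟨hy1, hy2⟩) | ⟨l, hl, rfl⟩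
    · obtain ⟨u, hu, h, hh, hh1, a, ha, u', hu', rfl⟩ := ih
      exact ⟨u, hu, h, hh, hh1, a, ha, u' * y, mul_mem hu' hy, by group⟩
    · exact hstepH x y ih hy1 hy2
    · exact hstepn x l hl ih
  | mul_inv_cancel x _ y hy ih =>
    rcases hy with (hy | ⟨hy1, hy2⟩) | ⟨l, hl, rfl⟩
    · obtain ⟨u, hu, h, hh, hh1, a, ha, u', hu', rfl⟩ := ih
      exact ⟨u, hu, h, hh, hh1, a, ha, u' * y⁻¹, mul_mem hu' (inv_mem hy), by group⟩
    · refine hstepH x y⁻¹ ih (inv_mem hy1) ?_
      have h1 := hχ.mul _ _ hy1 (inv_mem hy1)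
      rw [mul_inv_cancel, hχ.one, hy2, one_mul] at h1
      exact h1.symm
    · rw [R.ns_inv, ← mul_assoc]
      exact hstepH _ _ (hstepn x l hl ih) (R.tor_mem _) (hχ.co l hl _)

theorem TorChar.ker {h : G} (hh : h ∈ S.H) (hK : h ∈ parK S J χ) : χ h = 1 := by
  obtain ⟨u, hu, h1, hh1, hχ1, a, ha, u', hu', rfl⟩ := hχ.parK_form hK
  obtain ⟨k, hk, ek⟩ := nprod_rep (S := S) a
  have hc1 : u * h1 * nprod S a * u' ∈ S.cell 1 :=
    ⟨1, one_mem _, _, hh, 1, one_mem _, 1, one_mem _, by rw [S.rep_one]; group⟩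
  have hc2 : u * h1 * nprod S a * u' ∈ S.cell (sprod M a) :=
    S.cell_right_U hu' (by
      rw [ek, mul_assoc u, ← mul_assoc h1]
      exact S.cell_left_U hu (S.cell_left_H (mul_mem hh1 hk) (S.rep_mem_cell _)))
  obtain ⟨h2, h3⟩ := hχ.word_one a ha (cell_unique hc2 hc1)
  set h0 := u * h1 * nprod S a * u'
  have hmem : h0 * (h1 * nprod S a)⁻¹ ∈ S.U := by
    rw [show h0 * (h1 * nprod S a)⁻¹
      = u * ((h1 * nprod S a) * u' * (h1 * nprod S a)⁻¹) by simp only [h0]; group]
    exact mul_mem hu (S.H_conj_U (mul_mem hh1 h2) hu')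
  rw [mul_inv_eq_one.1 (S.UH _ hmem (mul_mem hh (inv_mem (mul_mem hh1 h2)))),
    hχ.mul _ _ hh1 h2, hχ1, h3, one_mul]

theorem TorChar.cell_word {x : M.Group} (hx : ∀ l ∈ J, D.nroots / 2 ≤ act hC x (D.simple l)) :
    ∀ a : List (Fin n), (∀ i ∈ a, i ∈ J) → ∀ u ∈ S.U,
      S.rep x * u * nprod S a ∈ S.cell (x * sprod M a) := by
  intro a
  induction hN : a.length using Nat.strong_induction_on generalizing a with
  | _ N ih =>
    subst hN
    intro ha u hu
    rcases List.eq_nil_or_concat a with rfl | ⟨a0, l, rfl⟩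
    · simpa using S.cell_right_U hu (S.rep_mem_cell x)
    rw [List.concat_eq_append] at ha ih ⊢
    have hl : l ∈ J := ha l (by simp)
    have ha0 : ∀ i ∈ a0, i ∈ J := fun i hi => ha i (List.mem_append_left _ hi)
    rw [nprod_snoc, sprod_snoc, ← mul_assoc (S.rep x * u), ← mul_assoc x]
    by_cases hup : Up hC (sprod M a0) l
    · refine cell_mul_up l ((up_iff _ l).2 ?_) (ih a0.length (by simp) a0 rfl ha0 u hu)
      rw [act_mul _ _ (simple_lt hC l)]
      exact pos_of_supported R x J hx _ (act_lt _ (simple_lt hC l)) ((up_iff _ l).1 hup)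
        (support_word ha0 hl)
    · obtain ⟨h, hh, -, a', ha', hlen, e, es⟩ := hχ.exchange a0 ha0 l hl hup
      rw [mul_assoc x, ← es, show S.rep x * u * nprod S a0 * S.ns l
        = (S.rep x * h * (S.rep x)⁻¹) * (S.rep x * (h⁻¹ * u * h) * nprod S a') by
          rw [mul_assoc _ (nprod S a0), e]; group]
      exact S.cell_left_H (S.rep_conj_H x hh) (ih a'.length (by simp; omega) a' rfl ha' _
        (by simpa using S.H_conj_U (inv_mem hh) hu))

omit hχ

/-- The permutation representation. -/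
noncomputable def permRep (k : Type*) [Field k] (K : Subgroup G) :
    G →* Module.End k (G ⧸ K → k) where
  toFun g := LinearMap.funLeft k k (fun c => g⁻¹ • c)
  map_one' := by ext f c; simp [LinearMap.funLeft]
  map_mul' a b := by ext f c; simp [LinearMap.funLeft, Module.End.mul_apply, mul_smul]

theorem permRep_single (K : Subgroup G) (g : G) (c : G ⧸ K) :
    permRep k K g (Pi.single c 1) = Pi.single (g • c) 1 := by
  funext d
  show (Pi.single c (1 : k) : G ⧸ K → k) (g⁻¹ • d) = _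
  by_cases h : d = g • c
  · subst h; simp
  · rw [Pi.single_eq_of_ne h, Pi.single_eq_of_ne (fun e => h (by rw [← e, smul_inv_smul]))]

variable [Fintype G] [Fintype F]

/-- Every weight is the weight of some vector. -/
theorem exists_realisation {p : ℕ} [hp : Fact p.Prime] [CharP F p] [CharP k p]
    (R : Rich S) (w : Wt n F k) :
    ∃ (K : Subgroup G) (u : G ⧸ K → k), IsWeight R (permRep k K) w u := by
  set J : Set (Fin n) := {i | (w i).1.2 = true} with hJdef
  obtain ⟨y, hyJ, hyout, hysimple⟩ := exists_adapted R J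
  set x := y⁻¹ with hxdef
  set J2 : Set (Fin n) := {l | ∃ j ∈ J, act hC y (D.simple j) = D.simple l} with hJ2
  have hxl : ∀ l ∈ J2, ∃ j ∈ J, act hC x (D.simple l) = D.simple j := by
    rintro l ⟨j, hj, e⟩
    exact ⟨j, hj, by rw [hxdef, ← e, act_inv_act y (simple_lt hC j)]⟩
  let hw : G → k := fun h => wchar w (Function.invFun R.tor h)
  have hwtor : ∀ c, hw (R.tor c) = wchar w c := fun c => by
    show wchar w (Function.invFun R.tor (R.tor c)) = _
    rw [Function.leftInverse_invFun R.tor_inj c]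
  let χ : G → k := fun h => hw (S.rep x * h * (S.rep x)⁻¹)
  have hchar : TorChar R J2 χ := by
    refine ⟨?_, fun a b ha hb => ?_, fun l hl a => ?_⟩
    · show hw _ = 1
      rw [mul_one, mul_inv_cancel, ← map_one R.tor, hwtor]
      simp [wchar]
    · obtain ⟨c, hc⟩ := R.exists_tor (S.rep_conj_H x ha)
      obtain ⟨d, hd⟩ := R.exists_tor (S.rep_conj_H x hb)
      show hw _ = hw _ * hw _
      rw [show S.rep x * (a * b) * (S.rep x)⁻¹
        = (S.rep x * a * (S.rep x)⁻¹) * (S.rep x * b * (S.rep x)⁻¹) by group, ← hc, ← hd, ← map_mul,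
        hwtor, hwtor, hwtor, wchar_mul]
    · obtain ⟨j, hj, e⟩ := hxl l hl
      show hw _ = 1
      rw [← R.co_simple, R.rep_conj_co x _ (simple_lt hC l), e, R.co_simple, hwtor, wchar_single,
        (w j).2 hj, MonoidHom.one_apply, Units.val_one]
  set K := parK S J2 χ with hKdef
  have hUK : ∀ a ∈ S.U, a ∈ K := fun a ha => Subgroup.subset_closure (Or.inl (Or.inl ha))
  set ρ := permRep k K with hρ
  let v : G ⧸ K → k :=
    ∑ c : Fin n → Fˣ, (χ (R.tor c))⁻¹ • Pi.single (QuotientGroup.mk (R.tor c) : G ⧸ K) (1 : k)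
  have hρv : ∀ g : G, ρ g v = ∑ c : Fin n → Fˣ,
      (χ (R.tor c))⁻¹ • Pi.single (QuotientGroup.mk (g * R.tor c) : G ⧸ K) (1 : k) := fun g => by
    simp only [v, map_sum, map_smul, hρ, permRep_single]
    rfl
  have hvfix : Fixed S ρ v := fun a ha => by
    rw [hρv]
    refine Finset.sum_congr rfl fun c _ => ?_
    congr 2
    exact QuotientGroup.eq.2 (by
      rw [show (a * R.tor c)⁻¹ * R.tor c = (R.tor c)⁻¹ * a⁻¹ * ((R.tor c)⁻¹)⁻¹ by group]
      exact hUK _ (S.H_conj_U (inv_mem (R.tor_mem c)) (inv_mem ha)))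
  have hvH : ∀ h ∈ S.H, ρ h v = χ h • v := by
    intro h hh
    obtain ⟨d, rfl⟩ := R.exists_tor hh
    rw [hρv, Finset.smul_sum]
    refine Fintype.sum_equiv (Equiv.mulLeft d) _ _ fun c => ?_
    have hne : χ (R.tor d) ≠ 0 := by
      obtain ⟨c', hc'⟩ := R.exists_tor (S.rep_conj_H x (R.tor_mem d))
      show hw _ ≠ 0
      rw [← hc', hwtor]; exact wchar_ne w c'
    rw [Equiv.coe_mulLeft, map_mul, hchar.mul _ _ (R.tor_mem d) (R.tor_mem c), smul_smul, mul_inv,
      ← mul_assoc, mul_inv_cancel₀ hne, one_mul]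
  have hvn : ∀ l ∈ J2, ρ (S.ns l) v = v := by
    intro l hl
    have hbij : ∀ c, ∃ c', R.tor c' = S.ns l * R.tor c * (S.ns l)⁻¹ := fun c =>
      R.exists_tor (S.n_conj_H l l.isLt _ (R.tor_mem c))
    choose f hf using hbij
    have hfinj : Function.Injective f := fun a b h => R.tor_inj (by
      have := congrArg R.tor h
      rw [hf, hf] at this
      simpa using this)
    rw [hρv]
    refine Fintype.sum_bijective f (Finite.injective_iff_bijective.1 hfinj) _ _ fun c => ?_
    rw [hf, hchar.conj_ns hl (R.tor_mem c)]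
    congr 2
    exact QuotientGroup.eq.2 (by
      rw [show (S.ns l * R.tor c)⁻¹ * (S.ns l * R.tor c * (S.ns l)⁻¹) = (S.ns l)⁻¹ by group]
      exact inv_mem (Subgroup.subset_closure (Or.inr ⟨l, hl, rfl⟩)))
  set u := op S ρ (S.rep x) v with hu
  have hufix : Fixed S ρ u := op_fixed hvfix _
  have hutor : ∀ c, ρ (R.tor c) u = wchar w c • u := by
    intro c
    have hh' : (S.rep x)⁻¹ * R.tor c * S.rep x ∈ S.H :=
      Rich.conj_inv_mem_H (Rich.rep_norm x) (R.tor_mem c)
    refine op_eigen hvfix (R.tor_mem c) hh' (by group) ?_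
    rw [hvH _ hh']
    show hw _ • v = _
    rw [show S.rep x * ((S.rep x)⁻¹ * R.tor c * S.rep x) * (S.rep x)⁻¹ = R.tor c by group, hwtor]
  -- the coefficient at `rep x K`
  have hcoef : u (QuotientGroup.mk (S.rep x)) ≠ 0 := by
    have hK1 : ∀ (a : S.Uw x⁻¹) c,
        (QuotientGroup.mk ((a : G) * S.rep x * R.tor c) : G ⧸ K) = QuotientGroup.mk (S.rep x) →
        (a : G) = 1 ∧ R.tor c ∈ K := by
      intro a c he
      set g := (S.rep x)⁻¹ * (a : G) * S.rep x with hg
      have hmem : g * R.tor c ∈ K := by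
        have := QuotientGroup.eq.1 he.symm
        simpa [hg, mul_assoc] using this
      have hgneg : g ∈ negU S := by
        obtain ⟨k', hk', e'⟩ := S.rep_inv x
        rw [hg, show (S.rep x)⁻¹ * (a : G) * S.rep x
          = (S.rep x)⁻¹ * (a : G) * ((S.rep x)⁻¹)⁻¹ by simp, e',
          show k' * S.rep x⁻¹ * (a : G) * (k' * S.rep x⁻¹)⁻¹
            = k' * (S.rep x⁻¹ * (a : G) * (S.rep x⁻¹)⁻¹) * k'⁻¹ by group]
        exact conj_mem_XS (fun r hr t => by
          obtain ⟨h1, h2⟩ := mem_negSet.1 hr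
          obtain ⟨t', e⟩ := S.h_conj _ hk' r h1 t
          rw [e]; exact x_mem_negU h1 h2 t') (S.flip_conj x⁻¹ a.2)
      obtain ⟨u1, hu1, h, hh, hh1, b, hb, u2, hu2, e⟩ := hchar.parK_form hmem
      have hc1 : S.rep x * (g * R.tor c) ∈ S.cell x := by
        rw [show S.rep x * (g * R.tor c) = (a : G) * S.rep x * R.tor c by rw [hg]; group]
        exact S.cell_right_H (R.tor_mem c) (S.cell_left_U (S.Uw_le _ a.2) (S.rep_mem_cell x))
      have hc2 : S.rep x * (g * R.tor c) ∈ S.cell (x * sprod M b) := by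
        rw [e, show S.rep x * (u1 * h * nprod S b * u2) = (S.rep x * h * (S.rep x)⁻¹) *
          (S.rep x * (h⁻¹ * u1 * h) * nprod S b) * u2 by group]
        refine S.cell_right_U hu2 (S.cell_left_H (S.rep_conj_H x hh) ?_)
        refine hchar.cell_word (fun l hl => ?_) b hb _
          (by simpa using S.H_conj_U (inv_mem hh) hu1)
        obtain ⟨j, hj, e⟩ := hxl l hl
        rw [e]; exact simple_pos hC j
      obtain ⟨hn1, hn2⟩ := hchar.word_one b hb (left_eq_mul.1 (cell_unique hc1 hc2))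
      set h3 := h * nprod S b with hh3
      have h3H : h3 ∈ S.H := mul_mem hh hn1
      have hkey : u1 * (h3 * u2 * h3⁻¹) * (h3 * (R.tor c)⁻¹) = g := by
        rw [hh3, show g = g * R.tor c * (R.tor c)⁻¹ by group, e]; group
      have hg1 := S.UHV _ (mul_mem hu1 (S.H_conj_U h3H hu2)) _
        (mul_mem h3H (inv_mem (R.tor_mem c))) _ hgneg hkey
      refine ⟨?_, ?_⟩
      · rw [hg, show (S.rep x)⁻¹ * (a : G) * S.rep x
          = (S.rep x)⁻¹ * (a : G) * ((S.rep x)⁻¹)⁻¹ by simp, conj_eq_one_iff] at hg1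
        exact hg1
      · rwa [hg1, one_mul] at hmem
    have hval : u (QuotientGroup.mk (S.rep x)) = ((univ.filter fun c => R.tor c ∈ K).card : k) := by
      rw [hu, op_rep hvfix, Finset.sum_apply, Finset.sum_eq_single (1 : S.Uw x⁻¹)]
      · rw [hρv, Finset.sum_apply, Finset.card_filter, Nat.cast_sum]
        refine Finset.sum_congr rfl fun c _ => ?_
        rw [Pi.smul_apply, smul_eq_mul]
        by_cases hc : R.tor c ∈ K
        · rw [if_pos hc, hchar.ker (R.tor_mem c) hc, inv_one, one_mul, Nat.cast_one,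
            show (QuotientGroup.mk (((1 : S.Uw x⁻¹) : G) * S.rep x * R.tor c) : G ⧸ K)
              = QuotientGroup.mk (S.rep x) from QuotientGroup.eq.2 (by simpa [mul_assoc] using hc),
            Pi.single_eq_same]
        · rw [if_neg hc, Nat.cast_zero, Pi.single_eq_of_ne (fun he => hc (hK1 1 c he.symm).2),
            mul_zero]
      · intro a _ ha
        rw [hρv, Finset.sum_apply]
        refine Finset.sum_eq_zero fun c _ => ?_
        rw [Pi.smul_apply, Pi.single_eq_of_ne, smul_zero]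
        exact fun he => ha (Subtype.ext (hK1 a c he.symm).1)
      · simp
    rw [hval]
    intro h0
    have hdvd := (CharP.cast_eq_zero_iff k p _).1 h0
    have hsub : (univ.filter fun c : Fin n → Fˣ => R.tor c ∈ K).card
        ∣ Fintype.card (Fin n → Fˣ) := by
      have := Subgroup.card_subgroup_dvd_card (K.comap R.tor)
      rwa [Nat.card_eq_fintype_card, Nat.card_eq_fintype_card, Fintype.card_subtype,
        show (univ.filter fun c => c ∈ K.comap R.tor) = univ.filter fun c => R.tor c ∈ K from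
          Finset.filter_congr fun c _ => Iff.rfl] at this
    have h2 := hdvd.trans hsub
    rw [Fintype.card_fun, Fintype.card_units, Fintype.card_fin] at h2
    have h3 := hp.out.dvd_of_dvd_pow h2
    have h4 : p ∣ Fintype.card F := (CharP.cast_eq_zero_iff F p _).1 (Nat.cast_card_eq_zero F)
    have h5 := Nat.dvd_sub h4 h3
    rw [show Fintype.card F - (Fintype.card F - 1) = 1 by
      have := Fintype.card_pos (α := F); omega] at h5
    exact hp.out.one_lt.ne' (Nat.dvd_one.1 h5)
  have hune : u ≠ 0 := fun h => hcoef (by rw [h]; rfl)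
  refine ⟨K, u, hune, hufix, hutor, fun i => ?_⟩
  by_cases hi : i ∈ J
  · -- `n_i` fixes `u`
    obtain ⟨l, hl⟩ := hysimple i hi
    have hlJ : l ∈ J2 := ⟨i, hi, hl⟩
    have hxli : act hC x (D.simple l) = D.simple i := by
      rw [hxdef, ← hl, act_inv_act y (simple_lt hC i)]
    obtain ⟨hw2, c, hc⟩ := conj_simple R hxli
    have hflip : ∀ r ∈ Sys.flip hC x⁻¹, C.sigma i r ∈ Sys.flip hC x⁻¹ := by
      intro r hr
      obtain ⟨h1, h2, h3⟩ := Sys.mem_flip.1 hr
      have hxy : x⁻¹ = y := inv_inv y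
      rw [← act_eq _ h1, hxy] at h3
      have hne : r ≠ D.simple i := fun e => by
        have := (up_iff y i).1 (hyJ i hi)
        rw [← e] at this
        omega
      refine Sys.mem_flip.2 ⟨sigma_lt hC i h1, sigma_pos hC i h1 h2 hne, ?_⟩
      rw [← act_eq _ (sigma_lt hC i h1), hxy]
      have e : y * M.simple i = M.simple l * y := by
        rw [← hw2, hxdef]
        have : y⁻¹ * M.simple l * y = y⁻¹ * M.simple l * (y⁻¹)⁻¹ := by rw [inv_inv]
        group
      rw [← act_simple (hC := hC) i h1, ← act_mul _ _ h1, e, act_mul _ _ h1,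
        act_simple l (act_lt y h1)]
      refine sigma_neg hC l (act_lt y h1) h3 fun e2 => ?_
      rw [sigma_simple hC l, ← hl, ← act_neg y (simple_lt hC i)] at e2
      have e3 := congrArg (act hC y⁻¹) e2
      rw [act_inv_act y h1, act_inv_act y (by have := simple_lt hC i; omega)] at e3
      have := simple_pos hC i
      have := simple_lt hC i
      have := hC.even
      omega
    have hconj : ∀ a : S.Uw x⁻¹, S.ns i * (a : G) * (S.ns i)⁻¹ ∈ S.Uw x⁻¹ := fun a =>
      conj_mem_XS (fun r hr t => by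
        obtain ⟨t', e⟩ := S.n_conj i i.isLt r (Sys.mem_flip.1 hr).1 t
        rw [e]; exact x_mem_XS (Finset.mem_coe.2 (hflip r hr)) t') a.2
    have hnx : ρ (S.ns i * S.rep x) v = ρ (S.rep x) v := by
      have e : S.ns i * S.rep x
          = (R.tor (Pi.mulSingle i c))⁻¹ * (S.rep x * S.ns l) := by
        rw [show S.rep x * S.ns l = S.rep x * S.ns l * (S.rep x)⁻¹ * S.rep x by group, hc]
        group
      have hh' : (S.rep x)⁻¹ * (R.tor (Pi.mulSingle i c))⁻¹ * S.rep x ∈ S.H :=
        Rich.conj_inv_mem_H (Rich.rep_norm x) (inv_mem (R.tor_mem _))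
      rw [e, show (R.tor (Pi.mulSingle i c))⁻¹ * (S.rep x * S.ns l) = S.rep x *
        ((S.rep x)⁻¹ * (R.tor (Pi.mulSingle i c))⁻¹ * S.rep x) * S.ns l by group, map_mul, map_mul,
        Module.End.mul_apply, Module.End.mul_apply, hvn l hlJ, hvH _ hh', map_smul]
      show hw _ • _ = _
      rw [show S.rep x * ((S.rep x)⁻¹ * (R.tor (Pi.mulSingle i c))⁻¹ * S.rep x) * (S.rep x)⁻¹
        = (R.tor (Pi.mulSingle i c))⁻¹ by group, ← map_inv, ← Pi.mulSingle_inv, hwtor, wchar_single,
        (w i).2 hi, MonoidHom.one_apply, Units.val_one, one_smul]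
    have hnu : ρ (S.ns i) u = u := by
      rw [hu, op_rep hvfix, map_sum]
      refine Fintype.sum_bijective (fun a => (⟨_, hconj a⟩ : S.Uw x⁻¹))
        (Finite.injective_iff_bijective.1 fun a b h => Subtype.ext (by
          simpa using congrArg Subtype.val h)) _ _ fun a => ?_
      show ρ (S.ns i) (ρ ((a : G) * S.rep x) v)
        = ρ (S.ns i * (a : G) * (S.ns i)⁻¹ * S.rep x) v
      rw [← Module.End.mul_apply, ← map_mul, show S.ns i * ((a : G) * S.rep x)
        = S.ns i * (a : G) * (S.ns i)⁻¹ * (S.ns i * S.rep x) by group, map_mul,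
        Module.End.mul_apply, hnx, ← Module.End.mul_apply, ← map_mul]
    have hwmu : wmu (w i) = (0 : k) := by
      have hi' : (w i).1.2 = true := hi
      simp [wmu, hi']
    rw [hwmu, zero_smul, op_ns hufix i]
    simp only [map_mul, Module.End.mul_apply, hnu,
      hufix _ (S.x_mem_U (simple_lt hC i) (simple_pos hC i) _), Finset.sum_const, card_univ]
    exact card_smul_eq_zero (k := k) (p := p) (F := F) _
  · -- `n_i` goes down
    set z := M.simple i * x with hz
    have hdown : ¬ Up hC x⁻¹ i := by rw [hxdef, inv_inv]; exact hyout i hi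
    have hup' : Up hC z⁻¹ i := by
      rw [hz, mul_inv_rev, simple_inv]; exact up_of_down hC hdown
    obtain ⟨h, hh, e⟩ := S.ns_rep (i := i) z
    rw [hz, ← mul_assoc, simple_mul_self, one_mul, ← hz] at e
    obtain ⟨c0, hc0⟩ := R.exists_tor hh
    set t := wchar w c0
    have hcomp : op S ρ (S.ns i) (op S ρ (S.rep z) v) = t • u := by
      rw [op_left_up hvfix hup', e, op_H_mul hvfix _ hh, ← hu, ← hc0, hutor]
    have hzfix : Fixed S ρ (op S ρ (S.rep z) v) := op_fixed hvfix _
    have hψ : ∀ a, ∃ s : k,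
        ρ (R.tor (Pi.mulSingle i a)) (op S ρ (S.rep z) v) = s • op S ρ (S.rep z) v := by
      intro a
      have hh' : (S.rep z)⁻¹ * R.tor (Pi.mulSingle i a) * S.rep z ∈ S.H :=
        Rich.conj_inv_mem_H (Rich.rep_norm z) (R.tor_mem _)
      exact ⟨_, op_eigen hvfix (R.tor_mem _) hh' (by group) (hvH _ hh')⟩
    choose ψ hψ using hψ
    have hψeq : ∀ a, ψ a⁻¹ = (((w i).1.1 a : kˣ) : k) := by
      intro a
      have h1 := R.op_ns_eigen hzfix i (a := a) (hψ a⁻¹)
      rw [hcomp, map_smul, hutor, wchar_single, smul_smul, smul_smul] at h1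
      exact mul_left_cancel₀ (wchar_ne w c0) ((smul_left_injective k hune h1).trans (mul_comm _ _))
        |>.symm
    have hsq := R.op_ns_sq (p := p) hzfix i hψ
    rw [hcomp, map_smul, smul_comm] at hsq
    rw [smul_right_injective (G ⧸ K → k) (wchar_ne w c0) hsq]
    congr 1
    rw [← Equiv.sum_comp (Equiv.inv Fˣ) ψ]
    simp only [Equiv.inv_apply, hψeq]
    have hi' : (w i).1.2 = false := by
      by_contra hb
      exact hi (by simpa [hJdef] using hb)
    by_cases h1 : (w i).1.1 = 1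
    · simp only [wmu, h1, hi', and_self, if_true, MonoidHom.one_apply, Units.val_one,
        Finset.sum_const, card_univ, nsmul_one]
      rw [Fintype.card_units, Nat.cast_sub Fintype.card_pos, (CharP.cast_eq_zero_iff k p _).2
        ((CharP.cast_eq_zero_iff F p _).1 (Nat.cast_card_eq_zero F))]
      simp
    · rw [wmu, if_neg (fun h => h1 h.1)]
      refine sum_hom_units_eq_zero ((Units.coeHom k).comp (w i).1.1) fun h => h1 ?_
      ext a
      exact congrArg (fun g : Fˣ →* k => g a) h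

end Cfsg.Agent.Chevalley.Weights
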